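import Cfsg.Agent.Lib.Sym.Sets

/-!
# The abacus

Heights of beads on the `p` runners, the weight of a configuration, nonvanishing of the character
values at products of `w` disjoint `p`-cycles, and spanning modulo `p`-singular classes.
-/

namespace SFock

open Finset

variable {N : ℕ}

/-- The number of beads below `x` on the runner of `x`. -/
def rk (p : ℕ) (S : Finset ℕ) (x : ℕ) : ℕ := (S.filter fun y => y % p = x % p ∧ y < x).card

/-- The number of gaps below `x` on the runner of `x`. -/
def ht (p : ℕ) (S : Finset ℕ) (x : ℕ) : ℕ :=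
  ((range x).filter fun y => y % p = x % p ∧ y ∉ S).card

/-- The weight of a configuration. -/
def wt (p : ℕ) (S : Finset ℕ) : ℕ := ∑ x ∈ S, ht p S x

theorem rk_add_ht {p : ℕ} (hp : 0 < p) (S : Finset ℕ) (x : ℕ) : rk p S x + ht p S x = x / p := by
  have h1 := Nat.count_modEq_card x hp x
  rw [if_neg (lt_irrefl _), add_zero, Nat.count_eq_card_filter_range] at h1
  have h2 := Finset.card_filter_add_card_filter_not
    (s := (range x).filter fun y => y ≡ x [MOD p]) (fun y => y ∈ S)
  rw [← h1, ← h2, rk, ht]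
  congr 2
  · ext y
    rw [mem_filter, mem_filter, mem_filter, mem_range, Nat.ModEq]
    tauto
  · ext y
    rw [mem_filter, mem_filter, mem_filter, mem_range, Nat.ModEq]
    tauto

theorem add_le_of_mod_eq {p a b : ℕ} (h : a % p = b % p) (hab : a < b) : a + p ≤ b := by
  have h1 : p ∣ b - a := (Nat.modEq_iff_dvd' hab.le).1 h
  have := Nat.le_of_dvd (by omega) h1
  omega

theorem sub_mod_self {p a : ℕ} (h : p ≤ a) : (a - p) % p = a % p := (Nat.mod_eq_sub_mod h).symm

theorem rk_lt_rk {p : ℕ} {S : Finset ℕ} {x y : ℕ} (hx : x ∈ S) (h : x % p = y % p) (hxy : x < y) :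
    rk p S x < rk p S y := by
  refine Finset.card_lt_card ⟨?_, fun hc => ?_⟩
  · intro z hz
    simp only [mem_filter] at hz ⊢
    exact ⟨hz.1, hz.2.1.trans h, hz.2.2.trans hxy⟩
  · have : x ∈ S.filter fun z => z % p = y % p ∧ z < y := by simp [hx, h, hxy]
    simpa using hc this

theorem ht_mono {p : ℕ} (S : Finset ℕ) {x y : ℕ} (h : x % p = y % p) (hxy : x ≤ y) :
    ht p S x ≤ ht p S y := by
  refine Finset.card_le_card fun z hz => ?_
  simp only [mem_filter, mem_range] at hz ⊢
  exact ⟨by omega, hz.2.1.trans h, hz.2.2⟩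

theorem ht_lt_ht {p : ℕ} {S : Finset ℕ} {x y : ℕ} (hx : x ∉ S) (h : x % p = y % p) (hxy : x < y) :
    ht p S x < ht p S y := by
  refine Finset.card_lt_card ⟨?_, fun hc => ?_⟩
  · intro z hz
    simp only [mem_filter, mem_range] at hz ⊢
    exact ⟨by omega, hz.2.1.trans h, hz.2.2⟩
  · have : x ∈ (range y).filter fun z => z % p = y % p ∧ z ∉ S := by simp [hx, h, hxy]
    simpa using hc this

theorem sum_eq_wt {p : ℕ} (hp : 0 < p) (S : Finset ℕ) :
    ∑ x ∈ S, x = ∑ x ∈ S, (x % p + p * rk p S x) + p * wt p S := by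
  rw [wt, Finset.mul_sum, ← Finset.sum_add_distrib]
  refine Finset.sum_congr rfl fun x _ => ?_
  rw [add_assoc, ← mul_add, rk_add_ht hp, Nat.mod_add_div]

theorem two_mul_sum_rk (p : ℕ) (S : Finset ℕ) : 2 * ∑ x ∈ S, rk p S x + S.card =
    ((res p S).map fun a => (res p S).count a).sum := by
  have h1 : ((res p S).map fun a => (res p S).count a).sum =
      ∑ x ∈ S, ∑ y ∈ S, if y % p = x % p then 1 else 0 := by
    rw [res, Multiset.map_map]
    refine Finset.sum_congr rfl fun x _ => ?_
    simp only [Function.comp, Multiset.count_map]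
    rw [← Finset.card_filter]
    congr 1
    exact Multiset.filter_congr fun y _ => eq_comm
  have h2 : ∑ x ∈ S, rk p S x = ∑ x ∈ S, ∑ y ∈ S, if y % p = x % p ∧ y < x then 1 else 0 :=
    Finset.sum_congr rfl fun x _ => Finset.card_filter _ _
  have h3 : ∑ x ∈ S, rk p S x = ∑ x ∈ S, ∑ y ∈ S, if x % p = y % p ∧ x < y then 1 else 0 := by
    rw [h2, Finset.sum_comm]
  have h4 : S.card = ∑ x ∈ S, ∑ y ∈ S, if y = x then 1 else 0 := by
    rw [Finset.card_eq_sum_ones]
    refine Finset.sum_congr rfl fun x hx => ?_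
    simp [hx]
  rw [h1, two_mul, h4]
  nth_rewrite 1 [h2]
  rw [h3, ← Finset.sum_add_distrib, ← Finset.sum_add_distrib]
  refine Finset.sum_congr rfl fun x _ => ?_
  rw [← Finset.sum_add_distrib, ← Finset.sum_add_distrib]
  refine Finset.sum_congr rfl fun y _ => ?_
  rcases lt_trichotomy x y with h | rfl | h
  · simp [h, h.ne', h.not_gt, eq_comm]
  · simp
  · simp [h, h.ne, h.not_gt]

/-- The weight depends only on the sum and the residues. -/
theorem wt_eq_of_res {p : ℕ} (hp : 0 < p) {S T : Finset ℕ} (h : res p S = res p T)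
    (hs : ∑ x ∈ S, x = ∑ x ∈ T, x) : wt p S = wt p T := by
  have h1 := sum_eq_wt hp S
  have h2 := sum_eq_wt hp T
  have h3 := two_mul_sum_rk p S
  have h4 := two_mul_sum_rk p T
  have h5 : S.card = T.card := by simpa [res] using congrArg Multiset.card h
  have h6 : ∑ x ∈ S, x % p = ∑ x ∈ T, x % p := congrArg Multiset.sum h
  rw [h] at h3
  have h7 : ∑ x ∈ S, rk p S x = ∑ x ∈ T, rk p T x := by omega
  rw [Finset.sum_add_distrib, ← Finset.mul_sum] at h1 h2
  rw [h7, h6] at h1
  exact Nat.eq_of_mul_eq_mul_left hp (by omega)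

/-- All beads slid down. -/
def gr (p : ℕ) (β : Fin N → ℕ) : Fin N → ℕ := fun i => β i % p + p * rk p (univ.image β) (β i)

theorem sum_eq_gr {p : ℕ} (hp : 0 < p) {β : Fin N → ℕ} (h : Function.Injective β) :
    ∑ i, β i = ∑ i, gr p β i + p * wt p (univ.image β) := by
  have := sum_eq_wt hp (univ.image β)
  rwa [Finset.sum_image (fun x _ y _ hxy => h hxy),
    Finset.sum_image (fun x _ y _ hxy => h hxy)] at this

theorem gr_injective {p : ℕ} (hp : 0 < p) {β : Fin N → ℕ} (h : Function.Injective β) :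
    Function.Injective (gr p β) := by
  intro i j hij
  apply h
  simp only [gr] at hij
  have h1 : β i % p = β j % p := by
    have := congrArg (· % p) hij
    simpa using this
  rw [h1] at hij
  have h2 := Nat.eq_of_mul_eq_mul_left hp (Nat.add_left_cancel hij)
  rcases lt_trichotomy (β i) (β j) with h3 | h3 | h3
  · exact absurd h2 (rk_lt_rk (Finset.mem_image_of_mem _ (mem_univ _)) h1 h3).ne
  · exact h3
  · exact absurd h2 (rk_lt_rk (Finset.mem_image_of_mem _ (mem_univ _)) h1.symm h3).ne'

theorem rk_image {p : ℕ} {β : Fin N → ℕ} (h : Function.Injective β) (x : ℕ) :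
    rk p (univ.image β) x = (univ.filter fun j => β j % p = x % p ∧ β j < x).card := by
  rw [rk, Finset.filter_image, Finset.card_image_of_injective _ h]

theorem sub_sg_apply (β : Fin N → ℕ) (i : Fin N) (r : ℕ) (k : Fin N) :
    (β - sg i r) k = if k = i then β i - r else β k := by
  simp only [Pi.sub_apply, Pi.single_apply]
  split_ifs with h
  · rw [h]
  · simp

theorem gr_sub {p : ℕ} {β : Fin N → ℕ} (h : Function.Injective β) {i : Fin N} (hi : p ≤ β i)
    (h' : Function.Injective (β - sg i p)) : gr p (β - sg i p) = gr p β := by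
  have hres : ∀ k, (β - sg i p) k % p = β k % p := by
    intro k
    rw [sub_sg_apply]
    split_ifs with hk
    · rw [hk, sub_mod_self hi]
    · rfl
  funext k
  simp only [gr, rk_image h, rk_image h', hres]
  congr 3
  ext j
  simp only [mem_filter, mem_univ, true_and, and_congr_right_iff]
  intro hjk
  by_cases hj : j = i
  · subst hj
    by_cases hk : k = j
    · subst hk; simp
    · have h1 : (β - sg j p) j ≠ (β - sg j p) k := fun hc => hk (h' hc).symm
      have h2 : β j ≠ β k := fun hc => hk (h hc).symm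
      rw [sub_sg_apply, sub_sg_apply, if_pos rfl, if_neg hk] at h1 ⊢
      constructor
      · intro h3
        by_contra h4
        have := add_le_of_mod_eq hjk.symm (by omega)
        omega
      · omega
  · by_cases hk : k = i
    · subst hk
      have h1 : (β - sg k p) j ≠ (β - sg k p) k := fun hc => hj (h' hc)
      rw [sub_sg_apply, sub_sg_apply, if_pos rfl, if_neg hj] at h1 ⊢
      constructor
      · omega
      · intro h3
        have := add_le_of_mod_eq hjk h3
        omega
    · rw [sub_sg_apply, sub_sg_apply, if_neg hj, if_neg hk]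

theorem exists_movable {p : ℕ} {S : Finset ℕ} (h : wt p S ≠ 0) :
    ∃ x ∈ S, p ≤ x ∧ x - p ∉ S := by
  obtain ⟨x, hx, h1⟩ := Finset.exists_ne_zero_of_sum_ne_zero h
  obtain ⟨y, hy⟩ := Finset.card_ne_zero.1 h1
  simp only [mem_filter, mem_range] at hy
  obtain ⟨z, hz, hmin⟩ := Finset.exists_min_image (S.filter fun z => y % p = z % p ∧ y < z)
    (fun z => z) ⟨x, by simp [hx, hy.1, hy.2.1]⟩
  simp only [mem_filter] at hz hmin
  have h2 := add_le_of_mod_eq hz.2.1 hz.2.2
  refine ⟨z, hz.1, by omega, fun hc => ?_⟩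
  have h3 : z - p ≠ y := fun h => hy.2.2 (h ▸ hc)
  have h4 := hmin (z - p) ⟨hc, by rw [sub_mod_self (by omega)]; exact hz.2.1, by omega⟩
  have h5 : p = 0 := by omega
  subst h5
  simp only [Nat.mod_zero] at hz
  omega

theorem alt_iterate {F : Fn N} (hF : Alt F) (p k : ℕ) : Alt ((L p)^[k] F) := by
  induction k with
  | zero => exact hF
  | succ k ih => rw [Function.iterate_succ_apply']; exact ih.L p

theorem iterate_L {p : ℕ} (hp : 0 < p) {F : Fn N} (hF : Alt F) (k : ℕ) :
    ∀ β : Fin N → ℕ, Function.Injective β → wt p (univ.image β) = k →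
      ∃ c : ℕ, 0 < c ∧ (L p)^[k] F β = c * F (gr p β) := by
  induction k with
  | zero =>
    intro β hβ hw
    refine ⟨1, one_pos, ?_⟩
    have : gr p β = β := by
      funext i
      have h1 := rk_add_ht hp (univ.image β) (β i)
      have h2 : ht p (univ.image β) (β i) = 0 :=
        Finset.sum_eq_zero_iff.1 hw _ (Finset.mem_image_of_mem _ (mem_univ i))
      rw [h2, add_zero] at h1
      rw [gr, h1, Nat.mod_add_div]
    simp [this]
  | succ k ih =>
    intro β hβ hw
    have key : ∀ i, ∃ c : ℕ, (p ≤ β i ∧ Function.Injective (β - sg i p) → 0 < c) ∧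
        (if p ≤ β i then (L p)^[k] F (β - sg i p) else 0) = c * F (gr p β) := by
      intro i
      by_cases h1 : p ≤ β i
      swap
      · exact ⟨0, fun h => absurd h.1 h1, by simp [h1]⟩
      by_cases h2 : Function.Injective (β - sg i p)
      swap
      · exact ⟨0, fun h => absurd h.2 h2, by simp [(alt_iterate hF p k).eq_zero h2]⟩
      have h3 := sum_eq_gr hp hβ
      have h4 := sum_eq_gr hp h2
      have h5 := sum_sub_single h1
      rw [gr_sub hβ h1 h2] at h4
      obtain ⟨c, hc, h6⟩ := ih _ h2 (Nat.eq_of_mul_eq_mul_left hp (by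
        rw [hw, mul_add] at h3; omega))
      exact ⟨c, fun _ => hc, by rw [if_pos h1, h6, gr_sub hβ h1 h2]⟩
    choose c hc1 hc2 using key
    refine ⟨∑ i, c i, ?_, ?_⟩
    · obtain ⟨x, hx, h1, h2⟩ := exists_movable (p := p) (S := univ.image β) (by omega)
      obtain ⟨i, -, rfl⟩ := Finset.mem_image.1 hx
      refine Finset.sum_pos' (fun _ _ => Nat.zero_le _) ⟨i, mem_univ _, hc1 i ⟨h1, ?_⟩⟩
      have hne : ∀ k, β k ≠ β i - p := fun k hk =>
        h2 (hk ▸ Finset.mem_image_of_mem _ (mem_univ k))
      intro j k hjk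
      rw [sub_sg_apply, sub_sg_apply] at hjk
      split_ifs at hjk with hj hk hk
      · rw [hj, hk]
      · exact absurd hjk.symm (hne k)
      · exact absurd hjk (hne j)
      · exact hβ hjk
    · rw [Function.iterate_succ_apply', L, Finset.sum_congr rfl fun i _ => hc2 i,
        ← Finset.sum_mul]
      push_cast
      rfl

theorem X_replicate_add (p k : ℕ) (ν : Multiset ℕ) :
    X N (Multiset.replicate k p + ν) = (L p)^[k] (X N ν) := by
  induction k with
  | zero => simp
  | succ k ih => rw [Multiset.replicate_succ, Multiset.cons_add, X_cons, ih,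
      Function.iterate_succ_apply']

theorem X_replicate_one_ne_zero {β : Fin N → ℕ} (hβ : Function.Injective β) {m : ℕ}
    (hs : ∑ i, β i = d0 N + m) : X N (Multiset.replicate m 1) β ≠ 0 := by
  have hlt : ∀ i, gr 1 β i < N := by
    intro i
    simp only [gr, Nat.mod_one, zero_add, one_mul]
    rw [rk_image hβ]
    refine lt_of_lt_of_le (Finset.card_lt_card (t := univ) ⟨subset_univ _, fun hc => ?_⟩) (by simp)
    simpa using hc (mem_univ i)
  have hinj : Function.Injective fun i => (⟨gr 1 β i, hlt i⟩ : Fin N) := fun i j h =>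
    gr_injective one_pos hβ (by simpa using h)
  have h1 : gr 1 β = pv (Equiv.ofBijective _ (Finite.injective_iff_bijective.1 hinj)) := rfl
  have h2 := sum_eq_gr one_pos hβ
  rw [h1, sum_pv, hs] at h2
  obtain ⟨c, hc, h3⟩ := iterate_L one_pos (alt_X (N := N) 0) m β hβ (by omega)
  have h4 := X_replicate_add (N := N) 1 m 0
  rw [add_zero] at h4
  rw [h4, h3, h1, X_zero, co_aD_pv]
  exact mul_ne_zero (by exact_mod_cast hc.ne') (by simp)

/-- The character of weight `w` does not vanish at a product of `w` disjoint `p`-cycles. -/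
theorem exists_Y_ne_zero {p : ℕ} (hp : 0 < p) {n : ℕ} {S : Finset ℕ} (hS : S ∈ SS N (d0 N + n)) :
    ∃ m, p * wt p S + m = n ∧
      Y N (Multiset.replicate (wt p S) p + Multiset.replicate m 1) S ≠ 0 := by
  obtain ⟨hc, hs⟩ := mem_SS.1 hS
  have hβ := (en_strictMono hc).injective
  have h1 := sum_eq_gr hp hβ
  rw [image_en hc, sum_en hc (fun x => x), hs] at h1
  have h2 := d0_le_sum (gr_injective hp hβ)
  refine ⟨n - p * wt p S, by omega, ?_⟩
  obtain ⟨c, hc0, h3⟩ := iterate_L hp (alt_X (N := N) (Multiset.replicate (n - p * wt p S) 1))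
    (wt p S) _ hβ (by rw [image_en hc])
  rw [Y, X_replicate_add, h3]
  exact mul_ne_zero (by exact_mod_cast hc0.ne')
    (X_replicate_one_ne_zero (gr_injective hp hβ) (by omega))

/-- A character of weight zero vanishes at the `p`-singular classes. -/
theorem Y_eq_zero_of_wt {p : ℕ} {S : Finset ℕ} (hS : S.card = N) (hw : wt p S = 0)
    {μ : Multiset ℕ} {r : ℕ} (hr : 0 < r) (hp : p ∣ r) (hμ : r ∈ μ) : Y N μ S = 0 := by
  obtain ⟨μ, rfl⟩ := Multiset.exists_cons_of_mem hμ
  rw [Y_cons hr μ hS]
  refine Finset.sum_eq_zero fun x hx => ?_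
  exfalso
  simp only [mem_filter] at hx
  have h1 : ht p S x = 0 := Finset.sum_eq_zero_iff.1 hw x hx.1
  have h2 : (x - r) % p = x % p := (Nat.modEq_iff_dvd' (Nat.sub_le x r)).2 (by
    rw [show x - (x - r) = r by omega]; exact hp)
  have := ht_lt_ht hx.2.2 h2 (by omega)
  omega

end SFock
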