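import Cfsg.Agent.Lib.Sym.Blocks

/-!
# Blocks of alternating groups
-/

namespace SFock

open Finset Cfsg CT BT
open scoped ComplexConjugate MonoidAlgebra

variable {p : ℕ} [Fact p.Prime] {M : Ideal AlgInt} (hM : IsPModular p M)
variable {N : ℕ} {α : Type*} [Fintype α] [DecidableEq α]

variable (α) in
/-- The sign character. -/
noncomputable def sgC : Equiv.Perm α → ℂ := fun g => ((Equiv.Perm.sign g : ℤ) : ℂ)

theorem isIrr_sgC : IsIrrCharacter (Equiv.Perm α) (sgC α) :=
  isIrrCharacter_of_monoidHom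
    ((Int.castRingHom ℂ).toMonoidHom.comp ((Units.coeHom ℤ).comp Equiv.Perm.sign))

theorem cbar_sgC : cbar (sgC α) = sgC α := by
  funext g; simp [sgC]

theorem ip_res_alt [Nontrivial α] (θ η : Equiv.Perm α → ℂ) :
    ip (CT.res (alternatingGroup α) θ) (CT.res (alternatingGroup α) η) =
      ip θ η + ip (θ * sgC α) η := by
  classical
  rw [ip_def, ip_def, ip_def, ← mul_add, ← Finset.sum_add_distrib,
    ← two_mul_nat_card_alternatingGroup]
  have h1 : ∑ g : alternatingGroup α, CT.res _ θ g * conj (CT.res _ η g) =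
      ∑ g ∈ univ.filter (· ∈ alternatingGroup α), θ g * conj (η g) :=
    (Finset.sum_subtype _ (by simp) fun g => θ g * conj (η g)).symm
  have h2 : ∑ g, (θ g * conj (η g) + (θ * sgC α) g * conj (η g)) =
      2 * ∑ g ∈ univ.filter (· ∈ alternatingGroup α), θ g * conj (η g) := by
    rw [Finset.sum_filter, Finset.mul_sum]
    refine Finset.sum_congr rfl fun g _ => ?_
    simp only [Equiv.Perm.mem_alternatingGroup, Pi.mul_apply, sgC]
    rcases Int.units_eq_one_or (Equiv.Perm.sign g) with h | h
    · simp [h]; ring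
    · simp [h]
  rw [h1, h2]
  have : (Nat.card (alternatingGroup α) : ℂ) ≠ 0 := card_cast_ne_zero
  push_cast
  field_simp

theorem res_eq_or [Nontrivial α] (hN : Fintype.card α ≤ N) {χ : IrrCharacter (Equiv.Perm α)}
    {ψ : IrrCharacter (alternatingGroup α)} (h : LiesOver (alternatingGroup α) χ.1 ψ.1) :
    ψ.1 = CT.res _ χ.1 ∨ (cj (2 * N) (lab hN χ) = lab hN χ ∧
      ∀ ψ' : IrrCharacter (alternatingGroup α), LiesOver (alternatingGroup α) χ.1 ψ'.1 →
        ψ = ψ' ∨ ψ.1 = CT.res _ χ.1 - ψ'.1) := by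
  have h1 := ip_res_alt χ.1 χ.1
  have hres := (irr_isCharacter χ).res (alternatingGroup α)
  let χ' : IrrCharacter (Equiv.Perm α) := ⟨χ.1 * sgC α, χ.2.mul_linear isIrr_sgC.isCharacter
    (charDegree_eq_of_apply_one (by simp [sgC]))⟩
  by_cases h2 : χ' = χ
  · right
    have h3 : χ.1 * sgC α = χ.1 := congrArg Subtype.val h2
    rw [h3, ip_irr_self] at h1
    constructor
    · by_contra hc
      have h4 := ip_eq_zero_of_ne_lab hN χ (cj_mem_SS hN (lab_mem hN χ)) hc
      have h5 : chi α N (cj (2 * N) (lab hN χ)) = chi α N (lab hN χ) * sgC α := by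
        funext g
        rw [chi_cj hN (lab_mem hN χ), mul_comm]; rfl
      rw [h5, ip_mul_left, cbar_sgC, mul_comm, h3] at h4
      rcases ip_lab hN χ with h6 | h6 <;> simp [h6] at h4
    · intro ψ' h'
      by_cases h4 : ψ = ψ'
      · exact Or.inl h4
      right
      have h5 := hres.sub_irr ψ' h'
      obtain ⟨m, hm⟩ := hres.exists_nat_ip (irr_isCharacter ψ')
      obtain ⟨k, hk⟩ := h5.exists_nat_ip h5
      have h6 := hk
      rw [ip_sub_left, ip_sub_right, ip_sub_right, h1, ip_irr_self,
        (irr_isCharacter ψ').ip_comm hres, hm] at h6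
      have h7 : (k : ℂ) + 2 * m = 3 := by linear_combination -h6
      have h8 : k + 2 * m = 3 := by exact_mod_cast h7
      have h9 : m ≠ 0 := by rintro rfl; exact h' (by simpa using hm)
      have h10 : k = 1 := by omega
      rw [h10, Nat.cast_one, ← h5.isIrr_iff_ip_self] at hk
      by_contra hc
      have := ip_irr_ne (χ := ⟨_, hk⟩) (ψ := ψ) (fun h => hc (congrArg Subtype.val h).symm)
      rw [ip_sub_left, ip_irr_ne (Ne.symm h4), sub_zero] at this
      exact h this
  · left
    have h3 := ip_irr_ne h2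
    rw [show ip (χ.1 * sgC α) χ.1 = 0 from h3, ip_irr_self, add_zero,
      ← hres.isIrr_iff_ip_self] at h1
    by_contra hc
    exact h (ip_irr_ne (χ := ⟨_, h1⟩) (ψ := ψ) (fun h => hc (congrArg Subtype.val h).symm))

include hM in
open Classical in
theorem blockRank_alt_le [Nontrivial α] (hN : Fintype.card α ≤ N)
    {B : Set (IrrCharacter (Equiv.Perm α))} (hB : IsPBlock M B)
    {b : Set (IrrCharacter (alternatingGroup α))} (hb : IsPBlock M b)
    (hc : Covers (alternatingGroup α) B b) {φ : IrrCharacter (Equiv.Perm α)} (hφ : φ ∈ B)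
    (ρ : ℕ) : blockRank p b ≤ ((Good α N p ρ (res p (lab hN φ))).image
      fun T => pRegularPart p fun h : alternatingGroup α => chi α N T h).card +
      (SelfC α N p (res p (lab hN φ))).card := by
  let w : Finset ℕ → alternatingGroup α → ℂ := fun T =>
    if h : ∃ ψ : IrrCharacter (alternatingGroup α), ∃ χ, lab hN χ = T ∧
      LiesOver (alternatingGroup α) χ.1 ψ.1 then pRegularPart p h.choose.1 else 0
  refine le_trans (finrank_le_card_of_le (s := ((Good α N p ρ (res p (lab hN φ))).image
      fun T => pRegularPart p fun h : alternatingGroup α => chi α N T h) ∪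
      (SelfC α N p (res p (lab hN φ))).image w) (Submodule.span_le.2 ?_))
    ((Finset.card_union_le _ _).trans (Nat.add_le_add_left Finset.card_image_le _))
  rintro _ ⟨ψ, hψ, rfl⟩
  obtain ⟨χ, hχ, h1⟩ := hc.exists_liesOver hM hB hb hψ
  rw [coe_union, Submodule.span_union]
  have h2 := pRegularPart_comp_mem (p := p) hN ρ (alternatingGroup α).subtype
    Subtype.val_injective χ
  rw [res_lab_eq hM hN hB hφ hχ, ← coe_image] at h2
  rcases res_eq_or hN h1 with h3 | ⟨h3, h4⟩
  · rw [SetLike.mem_coe]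
    simp only [h3]
    exact Submodule.mem_sup_left h2
  · have h5 : ∃ ψ : IrrCharacter (alternatingGroup α), ∃ χ', lab hN χ' = lab hN χ ∧
      LiesOver (alternatingGroup α) χ'.1 ψ.1 := ⟨ψ, χ, rfl, h1⟩
    have h6 : pRegularPart p h5.choose.1 ∈ Submodule.span ℂ
        (((SelfC α N p (res p (lab hN φ))).image w : Finset _) : Set (alternatingGroup α → ℂ)) := by
      refine Submodule.subset_span (Finset.mem_coe.2 (Finset.mem_image.2 ⟨lab hN χ, ?_, dif_pos h5⟩))
      exact Finset.mem_filter.2 ⟨lab_mem hN χ, res_lab_eq hM hN hB hφ hχ, h3⟩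
    obtain ⟨χ', h7, h8⟩ := h5.choose_spec
    rw [lab_injective hN h7] at h8
    rw [SetLike.mem_coe]
    rcases h4 _ h8 with h9 | h9
    · simp only [h9]
      exact Submodule.mem_sup_right h6
    · have : pRegularPart p ψ.1 = pRegularPart p (fun h : alternatingGroup α => χ.1 h) -
          pRegularPart p h5.choose.1 := by
        funext g
        rw [h9]
        simp only [pRegularPart, Pi.sub_apply, CT.res]
        split_ifs <;> simp
      simp only [this]
      exact Submodule.sub_mem _ (Submodule.mem_sup_left h2) (Submodule.mem_sup_right h6)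

theorem res_cj_eq {q L : ℕ} (hL : q ∣ L) {T T' : Finset ℕ} (hT : T ⊆ range L) (hT' : T' ⊆ range L)
    (h : res q T = res q T') : res q (cj L T) = res q (cj L T') := by
  have h1 : ∀ S : Finset ℕ, res q (cj L S) = (res q (range L \ S)).map fun a => q - 1 - a := by
    intro S
    have h2 := sum_cj L S fun z => ({z % q} : Multiset ℕ)
    rw [Finset.sum_congr rfl (s₂ := range L \ S) (g := fun y => {q - 1 - y % q}) (fun y hy => by
      rw [reflect_mod hL (Finset.mem_range.1 (Finset.mem_sdiff.1 hy).1)])] at h2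
    have h3 : ∀ (s : Finset ℕ) (f : ℕ → ℕ), ∑ x ∈ s, ({f x} : Multiset ℕ) = s.val.map f := by
      intro s f
      rw [Finset.sum, ← Multiset.sum_map_singleton (s.val.map f), Multiset.map_map]; rfl
    rw [h3, h3] at h2
    rw [res, h2, res, Multiset.map_map]; rfl
  have h2 : ∀ S ⊆ range L, res q (range L \ S) + res q S = res q (range L) := by
    intro S hS
    rw [res, res, res, ← Multiset.map_add, Finset.sdiff_val,
      Multiset.sub_add_cancel (Finset.val_le_iff.2 hS)]
  rw [h1, h1]
  congr 1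
  have h3 := h2 T hT
  rw [h, ← h2 T' hT'] at h3
  exact add_right_cancel h3

open Classical in
theorem card_add_lt_odd (hp : p ≠ 2) (hN : Fintype.card α ≤ N) (hpN : p ∣ 2 * N) {S : Finset ℕ}
    (hS : S ∈ Lab α N) {w : ℕ} (hw : wt p S = w + 1) :
    ((Good α N p (p / 2) (res p S)).image
      fun T => pRegularPart p fun h : alternatingGroup α => chi α N T h).card +
      (SelfC α N p (res p S)).card < p ^ (w + 1) := by
  have hp' : p.Prime := Fact.out
  obtain ⟨h, hh⟩ := hp'.odd_of_ne_two hp
  have h1 : 1 ≤ h := by have := hp'.two_le; omega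
  have h2 : p / 2 = h := by omega
  have h3 := card_good_lab_le hS hw (ρ := h) (by omega)
  have h4 : (SelfC α N p (res p S)).card ≤ p ^ w := by
    subst hh
    refine card_selfConj_odd h1 hpN (c := res (2 * h + 1) S) fun T hT => ?_
    obtain ⟨h5, h6, h7⟩ := Finset.mem_filter.1 hT
    exact ⟨h6, h7, (wt_eq_of_mem hS h5 h6).trans hw⟩
  have h5 : p ^ (w + 1) = (p - 1) * p ^ w + p ^ w := by
    rw [pow_succ', ← Nat.succ_mul]; congr 1; omega
  have h6 := pow_pos hp'.pos w
  rw [h2]
  rcases (SelfC α N p (res p S)).eq_empty_or_nonempty with h7 | ⟨T₁, hT₁⟩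
  · rw [h7, card_empty, add_zero]
    exact lt_of_le_of_lt (Finset.card_image_le.trans h3) (by omega)
  by_cases h8 : ∀ T ∈ Good α N p h (res p S), cj (2 * N) T = T
  · have h9 : Good α N p h (res p S) ⊆ SelfC α N p (res p S) := fun T hT =>
      Finset.mem_filter.2 ⟨(Finset.mem_filter.1 hT).1, (Finset.mem_filter.1 hT).2.1, h8 T hT⟩
    have h10 := (Finset.card_image_le (f := fun T =>
      pRegularPart p fun h : alternatingGroup α => chi α N T h)).trans
      ((Finset.card_le_card h9).trans h4)
    have h11 : 2 * p ^ w ≤ (p - 1) * p ^ w := Nat.mul_le_mul_right _ (by omega)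
    omega
  push Not at h8
  obtain ⟨T, hT, h8⟩ := h8
  obtain ⟨h9, h10, h11⟩ := Finset.mem_filter.1 hT
  obtain ⟨h12, h13, h14⟩ := Finset.mem_filter.1 hT₁
  have h15 : cj (2 * N) T ∈ Good α N p h (res p S) := by
    refine Finset.mem_filter.2 ⟨cj_mem_SS hN h9, ?_, ?_⟩
    · rw [res_cj_eq hpN (subset_range_of_mem_SS hN h9) (subset_range_of_mem_SS hN h12)
        (h10.trans h13.symm), h14, h13]
    · have := wr_cj hpN (ρ := h) (by omega) (subset_range_of_mem_SS hN h9)
      rwa [show p - 1 - h = h by omega, h11] at this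
  have h16 : ((Good α N p h (res p S)).image
      fun T => pRegularPart p fun h : alternatingGroup α => chi α N T h).card <
      (Good α N p h (res p S)).card := by
    refine lt_of_le_of_ne Finset.card_image_le fun hc => h8 ?_
    refine Finset.card_image_iff.1 hc h15 hT ?_
    refine congrArg (pRegularPart p) ?_
    funext g
    rw [chi_cj hN h9, Equiv.Perm.mem_alternatingGroup.1 g.2]
    simp
  omega

omit [DecidableEq α] in
theorem card_add_lt_two {S : Finset ℕ} (hS : S ∈ Lab α N) {w s : ℕ} (hw : wt 2 S = w + 1)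
    (hs : 1 ≤ s) (hs' : 2 * ((w + 1) / 2) ≤ s) :
    (Good α N 2 0 (res 2 S)).card + (SelfC α N 2 (res 2 S)).card < 2 ^ s := by
  have h1 := card_good_lab_le (p := 2) hS hw two_pos
  rcases Nat.even_or_odd' (w + 1) with ⟨k, hk | hk⟩
  · obtain ⟨k, rfl⟩ : ∃ j, k = j + 1 := ⟨k - 1, by omega⟩
    have h2 : (SelfC α N 2 (res 2 S)).card ≤ 2 ^ k := by
      refine card_selfConj_two (dvd_mul_right 2 N) (c := res 2 S) fun T hT => ?_
      obtain ⟨h5, h6, h7⟩ := Finset.mem_filter.1 hT
      exact ⟨h6, h7, (wt_eq_of_mem hS h5 h6).trans (hw.trans hk)⟩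
    have h3 : 2 ^ k < 2 ^ w := Nat.pow_lt_pow_right one_lt_two (by omega)
    have h4 : 2 ^ (w + 1) ≤ 2 ^ s := Nat.pow_le_pow_right two_pos (by omega)
    rw [pow_succ] at h4
    omega
  · have h2 : SelfC α N 2 (res 2 S) = ∅ := by
      rw [Finset.eq_empty_iff_forall_notMem]
      intro T hT
      obtain ⟨h5, h6, h7⟩ := Finset.mem_filter.1 hT
      have h8 := two_mul_sum_half (dvd_mul_right 2 N) h7
      rw [(wt_eq_of_mem hS h5 h6).trans hw] at h8
      omega
    rw [h2, card_empty, add_zero]
    rcases Nat.eq_zero_or_pos k with rfl | hk0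
    · have : 2 ^ 1 ≤ 2 ^ s := Nat.pow_le_pow_right two_pos hs
      rw [show w = 0 by omega] at h1
      omega
    · refine lt_of_lt_of_le (card_good_lt_two (w := w) (by omega) (c := res 2 S) fun T hT => ?_)
        (Nat.pow_le_pow_right two_pos (by omega))
      obtain ⟨h5, h6, h7⟩ := Finset.mem_filter.1 hT
      exact ⟨h6, h7, (wt_eq_of_mem hS h5 h6).trans hw⟩

theorem four_pow_two (a : Multiplicative (ZMod 2 × ZMod 2)) : a ^ 2 = 1 := by
  revert a; decide

theorem four_sign (a : Multiplicative (ZMod 2 × ZMod 2)) :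
    Equiv.Perm.sign (Equiv.mulLeft a) = 1 := by
  revert a; decide

include hM in
theorem blockRank_lt_alt {b : Set (IrrCharacter (alternatingGroup α))} (hb : IsPBlock M b)
    {D : Subgroup (alternatingGroup α)} (hD : IsDefectGroup p M b D) (hD1 : D ≠ ⊥) {s : ℕ}
    (hs : SectionalPRankLE p s D) : blockRank p b < p ^ s := by
  classical
  have hp : p.Prime := Fact.out
  rcases subsingleton_or_nontrivial α with hα | hα
  · exact absurd (Subsingleton.elim _ _) hD1
  obtain ⟨θ, hθ⟩ := block_nonempty hM hb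
  obtain ⟨φ, hφθ⟩ := exists_irr_liesOver θ
  have hB : IsPBlock M (blockOf M φ.1) := ⟨φ, rfl⟩
  have hφ : φ ∈ blockOf M φ.1 := mem_blockOf_self hM φ
  generalize blockOf M φ.1 = B at hB hφ
  have hc : Covers (alternatingGroup α) B b := ⟨φ, hφ, θ, hθ, hφθ⟩
  obtain ⟨P, hP, -, -, hPD⟩ := (bIdem_top_idem hM hB).exists_defGrp_cover_inf_eq hM le_top
    Subgroup.le_normalizer_of_normal (bIdem_sidem hM hb) ((covers_iff_mul hM hB hb).1 hc)
    ((isDefectGroup_iff_defGrp_sub hM hb D).1 hD)
  have hP1 : P ≠ ⊥ := by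
    rintro rfl
    rw [bot_inf_eq, eq_comm, Subgroup.map_eq_bot_iff_of_injective _ Subtype.val_injective] at hPD
    exact hD1 hPD
  have hN : Fintype.card α ≤ p * Fintype.card α := Nat.le_mul_of_pos_left _ hp.pos
  obtain ⟨w, hw⟩ := Nat.exists_eq_succ_of_ne_zero
    (wt_lab_ne_zero hM hN hB ((isDefectGroup_iff_defGrp hM hB P).2 hP) hP1 hφ)
  have key : ∀ (A : Type) [CommGroup A] [Fintype A] [DecidableEq A], (∀ a : A, a ^ p = 1) →
      (∀ a : A, Equiv.Perm.sign (Equiv.mulLeft a) = 1) → ∀ k : ℕ,
      k * Fintype.card A ≤ p * (w + 1) → Fintype.card A ^ k ≤ p ^ s := by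
    intro A _ _ _ hA hA' k hk
    obtain ⟨f, hf, h1, h2⟩ := exists_hom_le hM hN hB hφ hP A hA k (hw ▸ hk)
    have h3 : ∀ q, f q ∈ D.map (alternatingGroup α).subtype := fun q =>
      hPD ▸ ⟨h1 q, Equiv.Perm.mem_alternatingGroup.2 (h2 hA' q)⟩
    have h4 := card_le_of_sectionalPRankLE hs
      ((D.equivMapOfInjective _ (alternatingGroup α).subtype_injective).symm.toMonoidHom.comp
        (f.codRestrict _ h3))
      (fun a b h => hf (congrArg Subtype.val
        ((D.equivMapOfInjective _ (alternatingGroup α).subtype_injective).symm.injective h)))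
      mul_comm
      (fun q => funext fun i => hA (q i))
    simpa [Nat.card_eq_fintype_card] using h4
  by_cases h2 : p = 2
  · subst h2
    have h3 := key (Multiplicative (ZMod 2 × ZMod 2)) four_pow_two four_sign ((w + 1) / 2)
      (by simp; omega)
    have h4 : 2 * ((w + 1) / 2) ≤ s := by
      rw [show Fintype.card (Multiplicative (ZMod 2 × ZMod 2)) = 2 ^ 2 by simp, ← pow_mul] at h3
      exact (Nat.pow_le_pow_iff_right one_lt_two).1 h3
    have h5 : 1 ≤ s := by
      obtain ⟨k, hk⟩ := (isPGroup_of_isDefectGroup hD).exists_card_eq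
      have hk0 : k ≠ 0 := by
        rintro rfl
        exact hD1 (Subgroup.card_eq_one.1 hk)
      obtain ⟨x, hx⟩ := exists_prime_orderOf_dvd_card' (G := D) 2 (hk ▸ dvd_pow_self 2 hk0)
      have h6 := card_le_of_sectionalPRankLE hs (Subgroup.zpowers x).subtype Subtype.val_injective
        (fun a b => by
          obtain ⟨_, i, rfl⟩ := a
          obtain ⟨_, j, rfl⟩ := b
          exact Subtype.ext (zpow_mul_comm x i j))
        (fun a => by
          have := pow_card_eq_one' (x := a)
          rwa [Nat.card_zpowers, hx] at this)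
      rw [Nat.card_zpowers, hx] at h6
      by_contra hc
      rw [show s = 0 by omega] at h6
      omega
    exact lt_of_le_of_lt ((blockRank_alt_le hM hN hB hb hc hφ 0).trans
      (Nat.add_le_add_right Finset.card_image_le _)) (card_add_lt_two (lab_mem hN φ) hw h5 h4)
  · have h3 := key (Multiplicative (ZMod p)) zmod_pow (fun a => by
      have h4 : Equiv.Perm.sign (Equiv.mulLeft a) ^ p = 1 := by
        rw [← map_pow, Equiv.pow_mulLeft, zmod_pow, Equiv.mulLeft_one, map_one]
      rcases Int.units_eq_one_or (Equiv.Perm.sign (Equiv.mulLeft a)) with h5 | h5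
      · exact h5
      · rw [h5, (hp.odd_of_ne_two h2).neg_one_pow] at h4
        exact absurd h4 (by decide)) (w + 1) (by simp [mul_comm])
    rw [Fintype.card_multiplicative, ZMod.card] at h3
    exact lt_of_le_of_lt (blockRank_alt_le hM hN hB hb hc hφ (p / 2))
      ((card_add_lt_odd h2 hN (Dvd.dvd.mul_left (dvd_mul_right _ _) 2) (lab_mem hN φ) hw).trans_le h3)

end SFock
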