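import Cfsg.Agent.Lib.Sym.Frob
import Cfsg.Agent.Lib.Block.CoverP
import Cfsg.Agent.Lib.Block.GalBlock
import Cfsg.Agent.Lib.Block.UnionRank
import Cfsg.Agent.Lib.Block.PrincipalB
import Cfsg.Prelude.Def_CaseTheorems

/-!
# Blocks of symmetric and alternating groups

The number of irreducible Brauer characters of a block against the rank of its defect group.
-/

namespace SFock

open Finset Cfsg CT BT
open scoped ComplexConjugate MonoidAlgebra

variable {p : ℕ} [Fact p.Prime] {M : Ideal AlgInt} (hM : IsPModular p M)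
variable {N : ℕ} {α : Type*} [Fintype α] [DecidableEq α]

theorem card_le_of_sectionalPRankLE {D A : Type*} [Group D] [Group A] {q s : ℕ}
    (hs : SectionalPRankLE q s D) (f : A →* D) (hf : Function.Injective f)
    (hc : ∀ a b : A, a * b = b * a) (hq : ∀ a : A, a ^ q = 1) : Nat.card A ≤ q ^ s := by
  let φ : A →* (⊤ : Subgroup D) ⧸ (⊥ : Subgroup (⊤ : Subgroup D)) :=
    (QuotientGroup.mk' ⊥).comp (Subgroup.topEquiv.symm.toMonoidHom.comp f)
  have hφ : Function.Injective φ := by
    rw [injective_iff_map_eq_one]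
    intro a ha
    have h1 : Subgroup.topEquiv.symm (f a) = 1 := by
      simpa [φ, QuotientGroup.eq_one_iff] using ha
    exact hf (by simpa using h1)
  have h := hs ⊤ ⊥ φ.range ⟨⟨by
    rintro ⟨_, a, rfl⟩ ⟨_, b, rfl⟩
    exact Subtype.ext (by simp only [Subgroup.coe_mul, ← map_mul, hc a b])⟩⟩ (by
    rintro _ ⟨a, rfl⟩
    rw [← map_pow, hq, map_one])
  rwa [← Nat.card_congr (MonoidHom.ofInjective hφ).toEquiv] at h

include hM in
/-- Characters in one block have the same residues. -/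
theorem res_lab_eq (hN : Fintype.card α ≤ N) {B : Set (IrrCharacter (Equiv.Perm α))}
    (hB : IsPBlock M B) {φ ψ : IrrCharacter (Equiv.Perm α)} (hφ : φ ∈ B) (hψ : ψ ∈ B) :
    res p (lab hN ψ) = res p (lab hN φ) := by
  have h := isInt_setIdem_of_ip_pRegularPart hM
    (A := {χ | res p (lab hN χ) = res p (lab hN φ)}) (fun χ hχ ξ hξ =>
      ip_pRegularPart_eq_zero Fact.out hN (fun h => hξ (h.symm.trans hχ)))
  rcases block_subset_or_disjoint hM h hB with h | h
  · exact h hψ
  · exact absurd rfl (h φ hφ)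

include hM in
theorem wt_lab_ne_zero (hN : Fintype.card α ≤ N) {B : Set (IrrCharacter (Equiv.Perm α))}
    (hB : IsPBlock M B) {D : Subgroup (Equiv.Perm α)} (hD : IsDefectGroup p M B D) (hD1 : D ≠ ⊥)
    {φ : IrrCharacter (Equiv.Perm α)} (hφ : φ ∈ B) : wt p (lab hN φ) ≠ 0 := by
  intro hw
  obtain ⟨g, hg, h1⟩ := exists_apply_ne_zero_of_defect_ne_zero hM hB (fun h => hD1 (by
    rw [← Subgroup.card_eq_one, card_defectGroup hM hB hD, h, pow_zero])) hφ
  obtain ⟨r, hr, h2⟩ := exists_part_of_dvd Fact.out hg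
  obtain ⟨ε, -, h3⟩ := exists_irr_eq hN φ
  apply h1
  rw [h3, Pi.smul_apply, chi,
    Y_eq_zero_of_wt (mem_SS.1 (lab_mem hN φ)).1 hw (parts_pos g r hr) h2 hr, smul_zero]

omit [DecidableEq α] in
theorem apply_eq_of_commute {c x : Equiv.Perm α} (hc : c.IsCycle) (hp : orderOf c = p)
    (h : Commute x c) (hx : ¬ p ∣ orderOf x) {a : α} (ha : c a ≠ a) : x a = a := by
  have h1 : c (x a) ≠ x a := by
    rw [← Equiv.Perm.mul_apply, ← h.eq, Equiv.Perm.mul_apply]
    exact fun h => ha (x.injective h)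
  obtain ⟨j, hj⟩ := hc.exists_pow_eq ha h1
  have h2 : ∀ k : ℕ, (x ^ k) a = (c ^ (j * k)) a := by
    intro k
    induction k with
    | zero => simp
    | succ k ih =>
      rw [pow_succ', Equiv.Perm.mul_apply, ih, ← Equiv.Perm.mul_apply, (h.pow_right _).eq,
        Equiv.Perm.mul_apply, ← hj, ← Equiv.Perm.mul_apply, ← pow_add, mul_add, mul_one]
  have h3 := h2 (orderOf x)
  rw [pow_orderOf_eq_one, Equiv.Perm.one_apply, eq_comm, ← hc.pow_eq_one_iff' ha,
    ← orderOf_dvd_iff_pow_eq_one, hp, (Fact.out : p.Prime).dvd_mul, or_iff_left hx, ← hp,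
    orderOf_dvd_iff_pow_eq_one] at h3
  rw [← hj, h3, Equiv.Perm.one_apply]

theorem exists_fix_of_br {e : (ResF hM)[Equiv.Perm α]} (he : CIdem ⊤ e) {u : Equiv.Perm α}
    (hu : ∀ r ∈ u.cycleType, r = p) (h : br (Subgroup.zpowers u) e ≠ 0) :
    ∃ x, e.coeff x ≠ 0 ∧ ∀ a ∈ u.support, x a = a := by
  have hord : ∀ c ∈ u.cycleFactorsFinset, orderOf c = p := by
    intro c hc
    rw [(Equiv.Perm.mem_cycleFactorsFinset_iff.1 hc).1.orderOf]
    exact hu _ (Multiset.mem_map.2 ⟨c, hc, rfl⟩)
  have hup : IsPGroup p (Subgroup.zpowers u) := by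
    have : orderOf u ∣ p ^ 1 := by
      rw [← Equiv.Perm.lcm_cycleType, Multiset.lcm_dvd]
      intro r hr; rw [hu r hr, pow_one]
    obtain ⟨k, -, hk⟩ := (Nat.dvd_prime_pow Fact.out).1 this
    exact IsPGroup.of_card (by rw [Nat.card_zpowers, hk])
  have hf := he.br_of_le hM hup le_top (fun g _ => he.fixed g trivial)
  set E := Subgroup.closure (u.cycleFactorsFinset : Set (Equiv.Perm α)) with hE
  have hcomm : ∀ a ∈ E, ∀ b ∈ E, Commute a b := by
    have : E ≤ Subgroup.centralizer (E : Set (Equiv.Perm α)) := by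
      rw [hE, Subgroup.centralizer_closure, Subgroup.closure_le]
      intro c hc d hd
      exact (Equiv.Perm.cycleFactorsFinset_mem_commute' u hd hc).eq
    exact fun a ha b hb => this hb a ha
  have hEp : IsPGroup p E := by
    rintro ⟨g, hg⟩
    refine ⟨1, Subtype.ext ?_⟩
    simp only [pow_one, SubmonoidClass.mk_pow, OneMemClass.coe_one]
    induction hg using Subgroup.closure_induction with
    | mem c hc => rw [← hord c hc, pow_orderOf_eq_one]
    | one => simp
    | mul a b ha hb h1 h2 => rw [(hcomm a ha b hb).mul_pow, h1, h2, one_mul]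
    | inv a _ h1 => rw [inv_pow, h1, inv_one]
  have hEC : E ≤ Subgroup.centralizer (Subgroup.zpowers u : Set (Equiv.Perm α)) := by
    rw [hE, Subgroup.closure_le]
    rintro c hc _ ⟨k, rfl⟩
    exact ((Equiv.Perm.self_mem_cycle_factors_commute hc).symm.zpow_left k).eq
  have hCN : Subgroup.centralizer (Subgroup.zpowers u : Set (Equiv.Perm α)) ≤
      Subgroup.normalizer (E : Set (Equiv.Perm α)) := by
    intro k hk
    have h1 : k * u * k⁻¹ = u := by
      rw [← hk u (Subgroup.mem_zpowers u), mul_inv_cancel_right]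
    refine Subgroup.mem_normalizer_fintype fun g hg => ?_
    induction hg using Subgroup.closure_induction with
    | mem c hc =>
      refine Subgroup.subset_closure ?_
      have := (Equiv.Perm.mem_cycleFactorsFinset_conj u k c).2 hc
      rwa [h1] at this
    | one => simp
    | mul a b _ _ h1 h2 =>
      have := E.mul_mem h1 h2
      rwa [show k * a * k⁻¹ * (k * b * k⁻¹) = k * (a * b) * k⁻¹ by group] at this
    | inv a _ h1 =>
      have := E.inv_mem h1
      rwa [show (k * a * k⁻¹)⁻¹ = k * a⁻¹ * k⁻¹ by group] at this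
  rw [← hf.br_eq_self hM hEC hCN hEp] at h
  obtain ⟨x, hx, h1⟩ := br_ne_zero_iff.1 h
  have h2 : ¬ p ∣ orderOf x := fun h2 => h1 (hf.coeff_eq_zero_of_dvd_orderOf hM h2)
  refine ⟨x, fun h3 => h1 ?_, fun a ha => ?_⟩
  · by_cases h4 : x ∈ Subgroup.centralizer (Subgroup.zpowers u : Set (Equiv.Perm α))
    · rw [coeff_br_of_mem _ h4, h3]
    · exact coeff_br_of_not_mem _ h4
  · have hc := Equiv.Perm.cycleOf_mem_cycleFactorsFinset_iff.2 ha
    refine apply_eq_of_commute (Equiv.Perm.mem_cycleFactorsFinset_iff.1 hc).1 (hord _ hc)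
      (Commute.symm (hx _ (Subgroup.subset_closure hc))) h2 ?_
    rw [Equiv.Perm.cycleOf_apply_self]
    exact Equiv.Perm.mem_support.1 ha

theorem exists_fix (hN : Fintype.card α ≤ N) {B : Set (IrrCharacter (Equiv.Perm α))}
    (hB : IsPBlock M B) {φ : IrrCharacter (Equiv.Perm α)} (hφ : φ ∈ B) :
    ∃ T : Finset α, T.card = p * wt p (lab hN φ) ∧
      ∃ x, (idem hM B).coeff x ≠ 0 ∧ ∀ a ∈ T, x a = a := by
  have hp : p.Prime := Fact.out
  obtain ⟨m, hm, h1⟩ := exists_Y_ne_zero hp.pos (lab_mem hN φ)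
  set w := wt p (lab hN φ)
  obtain ⟨u, hu⟩ := (Equiv.Perm.exists_with_cycleType_iff α (m := Multiset.replicate w p)).2
    ⟨by rw [Multiset.sum_replicate, smul_eq_mul, mul_comm]; omega,
      fun a ha => by rw [Multiset.eq_of_mem_replicate ha]; exact hp.two_le⟩
  have hs : ∀ v : Equiv.Perm α, v.cycleType = Multiset.replicate w p → v.support.card = p * w := by
    intro v hv
    rw [← Equiv.Perm.sum_cycleType, hv, Multiset.sum_replicate, smul_eq_mul, mul_comm]
  have h2 : φ.1 u ≠ 0 := by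
    obtain ⟨ε, h3, h4⟩ := exists_irr_eq hN φ
    rw [h4, Pi.smul_apply, chi, Equiv.Perm.parts_partition, hu, hs u hu,
      show Fintype.card α - p * w = m by omega]
    exact mul_ne_zero (by rintro rfl; simp at h3) h1
  obtain ⟨D, hD⟩ := exists_isDefectGroup hM hB
  have h3 : IsPPart p u u := by
    refine ⟨1, mul_one u, Commute.one_right u, ?_, by rw [orderOf_one]; exact hp.not_dvd_one⟩
    have : orderOf u ∣ p ^ 1 := by
      rw [← Equiv.Perm.lcm_cycleType, Multiset.lcm_dvd, hu]
      intro r hr; rw [Multiset.eq_of_mem_replicate hr, pow_one]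
    obtain ⟨k, -, hk⟩ := (Nat.dvd_prime_pow hp).1 this
    exact ⟨k, hk⟩
  obtain ⟨y, hy⟩ : ∃ y : Equiv.Perm α, y * u * y⁻¹ ∈ D := by
    by_contra hc
    push Not at hc
    exact h2 (apply_eq_zero_of_not_conj_defect hM hB hD hφ h3 hc)
  have h4 : (y * u * y⁻¹).cycleType = Multiset.replicate w p := by
    rw [Equiv.Perm.cycleType_conj, hu]
  exact ⟨_, hs _ h4, exists_fix_of_br hM (bIdem_top_idem hM hB).toCIdem
    (fun r hr => Multiset.eq_of_mem_replicate (h4 ▸ hr))
    ((defGrp_of_isDefectGroup hM hB hD).br_ne_of_le (Subgroup.zpowers_le_of_mem hy))⟩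

theorem exists_hom (T : Finset α) (A : Type) [Group A] [Fintype A] [DecidableEq A] (k : ℕ)
    (h : k * Fintype.card A ≤ T.card) :
    ∃ f : (Fin k → A) →* Equiv.Perm α, Function.Injective f ∧ (∀ q, ∀ a ∉ T, f q a = a) ∧
      ((∀ a : A, Equiv.Perm.sign (Equiv.mulLeft a) = 1) → ∀ q, Equiv.Perm.sign (f q) = 1) := by
  classical
  obtain ⟨ι₀⟩ : Nonempty (Fin k × A ↪ T) :=
    Function.Embedding.nonempty_of_card_le (by simpa using h)
  let ι : Fin k × A ↪ α := ι₀.trans (Function.Embedding.subtype _)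
  let g : (Fin k → A) →* Equiv.Perm (Fin k × A) :=
    { toFun := fun q => Equiv.prodCongrRight fun i => Equiv.mulLeft (q i)
      map_one' := by ext x <;> simp
      map_mul' := fun q q' => by ext x <;> simp }
  refine ⟨(Equiv.Perm.viaEmbeddingHom ι).comp g,
    (Equiv.Perm.viaEmbeddingHom_injective ι).comp ?_, ?_, ?_⟩
  · intro q q' hq
    funext i
    have := congrArg (fun σ : Equiv.Perm (Fin k × A) => (σ (i, 1)).2) hq
    simpa [g] using this
  · intro q a ha
    refine Equiv.Perm.viaEmbedding_apply_of_notMem _ ι a ?_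
    rintro ⟨x, rfl⟩
    exact ha (ι₀ x).2
  · intro hs q
    rw [MonoidHom.comp_apply, Equiv.Perm.viaEmbeddingHom_apply, Equiv.Perm.viaEmbedding,
      Equiv.Perm.sign_extendDomain]
    change Equiv.Perm.sign (Equiv.prodCongrRight fun i => Equiv.mulLeft (q i)) = 1
    rw [Equiv.Perm.sign_prodCongrRight]
    exact Finset.prod_eq_one fun i _ => hs _

/-- A defect group contains a copy of `A ^ k` whenever `k |A| ≤ p w`. -/
theorem exists_hom_le (hN : Fintype.card α ≤ N) {B : Set (IrrCharacter (Equiv.Perm α))}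
    (hB : IsPBlock M B) {φ : IrrCharacter (Equiv.Perm α)} (hφ : φ ∈ B)
    {D : Subgroup (Equiv.Perm α)} (hD : DefGrp p ⊤ (idem hM B) D)
    (A : Type) [Group A] [Fintype A] [DecidableEq A] (hA : ∀ a : A, a ^ p = 1) (k : ℕ)
    (h : k * Fintype.card A ≤ p * wt p (lab hN φ)) :
    ∃ f : (Fin k → A) →* Equiv.Perm α, Function.Injective f ∧ (∀ q, f q ∈ D) ∧
      ((∀ a : A, Equiv.Perm.sign (Equiv.mulLeft a) = 1) → ∀ q, Equiv.Perm.sign (f q) = 1) := by
  obtain ⟨T, hT, x, hx, h1⟩ := exists_fix hM hN hB hφ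
  obtain ⟨f, hf, h2, h3⟩ := exists_hom T A k (hT ▸ h)
  obtain ⟨y, -, hy⟩ := hD.max f.range le_top (by
    rintro ⟨_, q, rfl⟩
    refine ⟨1, Subtype.ext ?_⟩
    have : q ^ p = 1 := funext fun i => hA (q i)
    simp [← map_pow, this]) (br_ne_zero_iff.2 ⟨x, by
      rintro _ ⟨q, rfl⟩
      refine Equiv.Perm.Disjoint.commute fun a => ?_
      by_cases ha : a ∈ T
      · exact Or.inr (h1 a ha)
      · exact Or.inl (h2 q a ha), hx⟩)
  refine ⟨(MulAut.conj y).toMonoidHom.comp f, (MulAut.conj y).injective.comp hf,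
    fun q => hy ⟨f q, ⟨q, rfl⟩, rfl⟩, fun hs q => ?_⟩
  simp [h3 hs q]

theorem zmod_pow (a : Multiplicative (ZMod p)) : a ^ p = 1 := by
  rw [← ofAdd_toAdd a, ← ofAdd_nsmul]; simp

/-- The configurations with given residues and a runner slid down. -/
def Good (α : Type*) [Fintype α] (N p ρ : ℕ) (c : Multiset ℕ) : Finset (Finset ℕ) :=
  (Lab α N).filter fun T => res p T = c ∧ wr p ρ T = 0

/-- The self-conjugate configurations with given residues. -/
def SelfC (α : Type*) [Fintype α] (N p : ℕ) (c : Multiset ℕ) : Finset (Finset ℕ) :=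
  (Lab α N).filter fun T => res p T = c ∧ cj (2 * N) T = T

omit [DecidableEq α] in
theorem wt_eq_of_mem {S T : Finset ℕ} (hS : S ∈ Lab α N) (hT : T ∈ Lab α N)
    (h : res p T = res p S) : wt p T = wt p S :=
  wt_eq_of_res (Fact.out : p.Prime).pos h ((mem_SS.1 hT).2.trans (mem_SS.1 hS).2.symm)

theorem pRegularPart_comp_mem (hN : Fintype.card α ≤ N) (ρ : ℕ) {H : Type*} [Group H]
    (j : H →* Equiv.Perm α) (hj : Function.Injective j) (φ : IrrCharacter (Equiv.Perm α)) :
    pRegularPart p (fun h => φ.1 (j h)) ∈ Submodule.span ℂ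
      ((fun T => pRegularPart p fun h => chi α N T (j h)) ''
        (Good α N p ρ (res p (lab hN φ)) : Set (Finset ℕ))) := by
  classical
  obtain ⟨ε, -, h1⟩ := exists_irr_eq hN φ
  have h2 : pRegularPart p (fun h => φ.1 (j h)) =
      ε • pRegularPart p fun h => chi α N (lab hN φ) (j h) := by
    funext g
    conv_lhs => rw [h1]
    simp only [pRegularPart, Pi.smul_apply]
    split_ifs <;> simp
  rw [h2]
  refine Submodule.smul_mem _ _ ?_
  have h3 := Y_mem_span_good (Fact.out : p.Prime).pos ρ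
    (fun g : H => (j g).partition.parts) (fun g : H => IsPRegular p g)
    (fun g => by rw [(j g).partition.parts_sum]; exact hN)
    (fun g hg r _ => notMem_parts Fact.out (by rwa [orderOf_injective j hj]) (dvd_mul_right p r))
    (lab_mem hN φ)
  rw [Good, coe_filter]
  exact h3

theorem finrank_le_card_of_le {V : Type*} [AddCommGroup V] [Module ℂ V] {W : Submodule ℂ V}
    {s : Finset V} (h : W ≤ Submodule.span ℂ (s : Set V)) : Module.finrank ℂ W ≤ s.card :=
  (Submodule.finrank_mono h).trans (finrank_span_finset_le_card s)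

omit [DecidableEq α] in
theorem card_good_lab_le {S : Finset ℕ} (hS : S ∈ Lab α N) {w ρ : ℕ} (hw : wt p S = w + 1)
    (hρ : ρ < p) : (Good α N p ρ (res p S)).card ≤ (p - 1) * p ^ w :=
  card_good_le hρ (c := res p S) fun T hT => by
    obtain ⟨h5, h6, h7⟩ := Finset.mem_filter.1 hT
    exact ⟨h6, h7, (wt_eq_of_mem hS h5 h6).trans hw⟩

include hM in
theorem blockRank_lt_perm {B : Set (IrrCharacter (Equiv.Perm α))} (hB : IsPBlock M B)
    {D : Subgroup (Equiv.Perm α)} (hD : IsDefectGroup p M B D) (hD1 : D ≠ ⊥) {s : ℕ}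
    (hs : SectionalPRankLE p s D) : blockRank p B < p ^ s := by
  classical
  have hp : p.Prime := Fact.out
  obtain ⟨φ, hφ⟩ := block_nonempty hM hB
  have hN := le_refl (Fintype.card α)
  obtain ⟨w, hw⟩ := Nat.exists_eq_succ_of_ne_zero (wt_lab_ne_zero hM hN hB hD hD1 hφ)
  obtain ⟨f, hf, h1, -⟩ := exists_hom_le hM hN hB hφ (defGrp_of_isDefectGroup hM hB hD)
    (Multiplicative (ZMod p)) zmod_pow (w + 1) (by simp [hw, mul_comm])
  have h2 := card_le_of_sectionalPRankLE hs (f.codRestrict D h1)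
    (fun a b h => hf (congrArg Subtype.val h)) mul_comm (fun q => funext fun i => zmod_pow (q i))
  have h3 : Nat.card (Fin (w + 1) → Multiplicative (ZMod p)) = p ^ (w + 1) := by
    simp [Nat.card_eq_fintype_card]
  rw [h3] at h2
  have h4 := card_good_lab_le (lab_mem hN φ) hw hp.pos
  have h5 : blockRank p B ≤ ((Good α (Fintype.card α) p 0 (res p (lab hN φ))).image
      fun T => pRegularPart p (chi α (Fintype.card α) T)).card := by
    refine finrank_le_card_of_le (Submodule.span_le.2 ?_)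
    rintro _ ⟨ψ, hψ, rfl⟩
    have h6 := pRegularPart_comp_mem (p := p) hN 0 (MonoidHom.id _) (fun _ _ h => h) ψ
    rw [res_lab_eq hM hN hB hφ hψ] at h6
    rw [coe_image]
    exact h6
  have h6 : (p - 1) * p ^ w < p ^ (w + 1) := by
    rw [pow_succ']
    exact Nat.mul_lt_mul_of_pos_right (by have := hp.pos; omega) (pow_pos hp.pos w)
  exact lt_of_le_of_lt (h5.trans (Finset.card_image_le.trans h4)) (h6.trans_le h2)

end SFock
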