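import Cfsg.Agent.Lib.Sym.Span

/-!
# Counting configurations

Configurations with given residues are determined by the heights of their beads; bounds for the
number of configurations with a runner slid down and of self-conjugate configurations.
-/

namespace SFock

open Finset

variable {N : ℕ}

/-- Add `k` to the size of the first entry. -/
def bump (k : ℕ) : List (ℕ × ℕ) → List (ℕ × ℕ)
  | [] => []
  | e :: l => (e.1 + k, e.2) :: l

theorem eq_nil_of_sum_zero {l : List (ℕ × ℕ)} (h : ∀ e ∈ l, 1 ≤ e.1)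
    (hs : (l.map Prod.fst).sum = 0) : l = [] := by
  cases l with
  | nil => rfl
  | cons e l =>
    have := h e (by simp)
    simp only [List.map_cons, List.sum_cons] at hs
    omega

theorem exists_cover_lists (C : Finset ℕ) (w : ℕ) :
    ∃ F : Finset (List (ℕ × ℕ)), F.card ≤ C.card * (C.card + 1) ^ w ∧
      ∀ l : List (ℕ × ℕ), (∀ e ∈ l, 1 ≤ e.1 ∧ e.2 ∈ C) → (l.map Prod.fst).sum = w + 1 → l ∈ F := by
  induction w with
  | zero =>
    refine ⟨C.image fun ρ => [(1, ρ)], by simpa using Finset.card_image_le, ?_⟩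
    intro l hl hs
    cases l with
    | nil => simp at hs
    | cons e l =>
      have h1 := hl e (by simp)
      simp only [List.map_cons, List.sum_cons] at hs
      have h2 : l = [] := eq_nil_of_sum_zero (fun e he => (hl e (by simp [he])).1) (by omega)
      subst h2
      refine Finset.mem_image.2 ⟨e.2, h1.2, ?_⟩
      simp only [List.map_nil, List.sum_nil] at hs
      rw [show e = (1, e.2) from Prod.ext (by simp; omega) rfl]
  | succ w ih =>
    obtain ⟨F, hF, hF'⟩ := ih
    refine ⟨(C ×ˢ F).image (fun x => (1, x.1) :: x.2) ∪ F.image (bump 1), ?_, ?_⟩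
    · refine le_trans (Finset.card_union_le _ _) ?_
      refine le_trans (add_le_add Finset.card_image_le Finset.card_image_le) ?_
      rw [Finset.card_product, pow_succ]
      nlinarith
    · intro l hl hs
      cases l with
      | nil => simp at hs
      | cons e l =>
        have h1 := hl e (by simp)
        simp only [List.map_cons, List.sum_cons] at hs
        by_cases h2 : e.1 = 1
        · refine Finset.mem_union_left _ (Finset.mem_image.2 ⟨(e.2, l), ?_, ?_⟩)
          · exact Finset.mem_product.2 ⟨h1.2, hF' l (fun e he => hl e (by simp [he])) (by omega)⟩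
          · rw [← h2]
        · refine Finset.mem_union_right _ (Finset.mem_image.2 ⟨(e.1 - 1, e.2) :: l, ?_, ?_⟩)
          · refine hF' _ ?_ (by simp only [List.map_cons, List.sum_cons]; omega)
            intro e' he'
            rcases List.mem_cons.1 he' with rfl | he'
            · exact ⟨by simp only; omega, h1.2⟩
            · exact hl e' (by simp [he'])
          · simp only [bump]
            rw [show e.1 - 1 + 1 = e.1 by omega]

theorem card_le_of_cover {P : ℕ × ℕ → Prop} {w : ℕ} {F : Finset (List (ℕ × ℕ))}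
    (hF : ∀ l : List (ℕ × ℕ), (∀ e ∈ l, P e) → (l.map Prod.fst).sum = w → l ∈ F)
    {G : Finset (Multiset (ℕ × ℕ))} (hG : ∀ m ∈ G, (∀ e ∈ m, P e) ∧ (m.map Prod.fst).sum = w) :
    G.card ≤ (F.image fun l : List (ℕ × ℕ) => (l : Multiset (ℕ × ℕ))).card := by
  refine Finset.card_le_card fun m hm => ?_
  obtain ⟨h1, h2⟩ := hG m hm
  induction m using Quotient.inductionOn with
  | _ l => exact Finset.mem_image.2 ⟨l, hF l (by simpa using h1) (by simpa using h2), rfl⟩

theorem card_multisets_le (C : Finset ℕ) (w : ℕ) {G : Finset (Multiset (ℕ × ℕ))}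
    (hG : ∀ m ∈ G, (∀ e ∈ m, 1 ≤ e.1 ∧ e.2 ∈ C) ∧ (m.map Prod.fst).sum = w + 1) :
    G.card ≤ C.card * (C.card + 1) ^ w := by
  obtain ⟨F, hF, hF'⟩ := exists_cover_lists C w
  exact (card_le_of_cover hF' hG).trans (Finset.card_image_le.trans hF)

theorem card_multisets_lt (ρ w : ℕ) (hw : 2 ≤ w) {G : Finset (Multiset (ℕ × ℕ))}
    (hG : ∀ m ∈ G, (∀ e ∈ m, 1 ≤ e.1 ∧ e.2 ∈ ({ρ} : Finset ℕ)) ∧ (m.map Prod.fst).sum = w + 1) :
    G.card < 2 ^ w := by
  obtain ⟨F, hF, hF'⟩ := exists_cover_lists {ρ} w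
  simp only [card_singleton, one_mul] at hF
  refine lt_of_le_of_lt (card_le_of_cover hF' hG) (lt_of_lt_of_le ?_ hF)
  refine lt_of_le_of_ne Finset.card_image_le fun h => ?_
  have h1 : [(1, ρ), (w, ρ)] = [(w, ρ), (1, ρ)] := Finset.card_image_iff.1 h
    (hF' [(1, ρ), (w, ρ)] (by simp; omega) (by simp; omega))
    (hF' [(w, ρ), (1, ρ)] (by simp; omega) (by simp))
    (Quotient.sound (List.Perm.swap _ _ _))
  simp only [List.cons.injEq, Prod.mk.injEq] at h1
  omega

theorem cover_step {h w : ℕ} {F₀ F₁ : Finset (List (ℕ × ℕ))}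
    (h₀ : ∀ l : List (ℕ × ℕ), (∀ e ∈ l, 1 ≤ e.1 ∧ e.2 ≤ h ∧ (e.2 < h → 2 ∣ e.1)) →
      (l.map Prod.fst).sum = w → l ∈ F₀)
    (h₁ : ∀ l : List (ℕ × ℕ), (∀ e ∈ l, 1 ≤ e.1 ∧ e.2 ≤ h ∧ (e.2 < h → 2 ∣ e.1)) →
      (l.map Prod.fst).sum = w + 1 → l ∈ F₁) :
    ∃ F₂ : Finset (List (ℕ × ℕ)), F₂.card ≤ 2 * F₁.card + h * F₀.card + (F₀.erase []).card ∧
      ∀ l : List (ℕ × ℕ), (∀ e ∈ l, 1 ≤ e.1 ∧ e.2 ≤ h ∧ (e.2 < h → 2 ∣ e.1)) →
        (l.map Prod.fst).sum = w + 2 → l ∈ F₂ := by
  refine ⟨F₁.image (fun l => (1, h) :: l) ∪ F₁.image (bump 1) ∪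
    (range h ×ˢ F₀).image (fun x => (2, x.1) :: x.2) ∪ (F₀.erase []).image (bump 2), ?_, ?_⟩
  · refine le_trans (Finset.card_union_le _ _) (add_le_add ?_ Finset.card_image_le)
    refine le_trans (Finset.card_union_le _ _) (add_le_add ?_ ?_)
    · refine le_trans (Finset.card_union_le _ _) ?_
      rw [two_mul]
      exact add_le_add Finset.card_image_le Finset.card_image_le
    · simpa using (Finset.card_image_le (s := range h ×ˢ F₀))
  · intro l hl hs
    cases l with
    | nil => simp at hs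
    | cons e l =>
      obtain ⟨h1, h2, h3⟩ := hl e (by simp)
      have hl' : ∀ e ∈ l, 1 ≤ e.1 ∧ e.2 ≤ h ∧ (e.2 < h → 2 ∣ e.1) := fun e he => hl e (by simp [he])
      simp only [List.map_cons, List.sum_cons] at hs
      simp only [mem_union, mem_image]
      by_cases h4 : e.2 = h
      · by_cases h5 : e.1 = 1
        · refine Or.inl (Or.inl (Or.inl ⟨l, h₁ l hl' (by omega), ?_⟩))
          rw [← h4, ← h5]
        · refine Or.inl (Or.inl (Or.inr ⟨(e.1 - 1, e.2) :: l, h₁ _ ?_ ?_, ?_⟩))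
          · intro e' he'
            rcases List.mem_cons.1 he' with rfl | he'
            · exact ⟨by simp only; omega, h2, by simp only; omega⟩
            · exact hl' e' he'
          · simp only [List.map_cons, List.sum_cons]; omega
          · simp only [bump]
            rw [show e.1 - 1 + 1 = e.1 by omega]
      · have h5 := h3 (by omega)
        by_cases h6 : e.1 = 2
        · refine Or.inl (Or.inr ⟨(e.2, l), ?_, ?_⟩)
          · exact Finset.mem_product.2 ⟨by simp only [mem_range]; omega, h₀ l hl' (by omega)⟩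
          · rw [← h6]
        · refine Or.inr ⟨(e.1 - 2, e.2) :: l, Finset.mem_erase.2 ⟨by simp, h₀ _ ?_ ?_⟩, ?_⟩
          · intro e' he'
            rcases List.mem_cons.1 he' with rfl | he'
            · exact ⟨by simp only; omega, h2, by simp only; omega⟩
            · exact hl' e' he'
          · simp only [List.map_cons, List.sum_cons]; omega
          · simp only [bump]
            rw [show e.1 - 2 + 2 = e.1 by omega]

theorem exists_cover_lists' {h : ℕ} (hh : 1 ≤ h) (w : ℕ) :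
    ∃ F : Finset (List (ℕ × ℕ)), F.card ≤ (2 * h + 1) ^ w ∧
      ∀ l : List (ℕ × ℕ), (∀ e ∈ l, 1 ≤ e.1 ∧ e.2 ≤ h ∧ (e.2 < h → 2 ∣ e.1)) →
        (l.map Prod.fst).sum = w + 1 → l ∈ F := by
  have b1 : ∀ l : List (ℕ × ℕ), (∀ e ∈ l, 1 ≤ e.1 ∧ e.2 ≤ h ∧ (e.2 < h → 2 ∣ e.1)) →
      (l.map Prod.fst).sum = 0 + 1 → l ∈ ({[(1, h)]} : Finset (List (ℕ × ℕ))) := by
    intro l hl hs
    cases l with
    | nil => simp at hs
    | cons e l =>
      obtain ⟨h1, h2, h3⟩ := hl e (by simp)
      simp only [List.map_cons, List.sum_cons] at hs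
      have h4 : l = [] := eq_nil_of_sum_zero (fun e he => (hl e (by simp [he])).1) (by omega)
      subst h4
      simp only [List.map_nil, List.sum_nil] at hs
      have h5 : e.2 = h := by
        by_contra hc
        have := h3 (by omega)
        omega
      rw [show e = (1, h) from Prod.ext (by simp; omega) h5]
      simp
  induction w using Nat.strong_induction_on with
  | _ w ih =>
  match w, ih with
  | 0, _ => exact ⟨_, by simp, b1⟩
  | 1, _ =>
    obtain ⟨F, hF, hF'⟩ := cover_step (h := h) (w := 0) (F₀ := {[]}) (fun l hl hs => by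
      rw [eq_nil_of_sum_zero (fun e he => (hl e he).1) hs]; simp) b1
    refine ⟨F, hF.trans ?_, hF'⟩
    simp
    omega
  | w + 2, ih =>
    obtain ⟨F₀, hF₀, hF₀'⟩ := ih w (by omega)
    obtain ⟨F₁, hF₁, hF₁'⟩ := ih (w + 1) (by omega)
    obtain ⟨F, hF, hF'⟩ := cover_step hF₀' hF₁'
    refine ⟨F, hF.trans ?_, hF'⟩
    have h1 : (F₀.erase []).card ≤ F₀.card := Finset.card_erase_le
    rw [pow_succ] at hF₁
    rw [pow_succ, pow_succ]
    generalize (2 * h + 1) ^ w = t at hF₀ hF₁ ⊢
    have h2 : h * F₀.card ≤ h * t := Nat.mul_le_mul_left _ hF₀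
    have h3 : t ≤ h * t := Nat.le_mul_of_pos_left _ hh
    have h4 : h * t ≤ h * (h * t) := Nat.le_mul_of_pos_left _ hh
    nlinarith

/-- The heights and runners of the beads that are not slid down. -/
def qt (p : ℕ) (T : Finset ℕ) : Multiset (ℕ × ℕ) :=
  (T.filter fun x => 0 < ht p T x).val.map fun x => (ht p T x, x % p)

/-- The number of beads on a runner of height at most `h`. -/
def cnt (p : ℕ) (T : Finset ℕ) (h ρ : ℕ) : ℕ := (T.filter fun x => x % p = ρ ∧ ht p T x ≤ h).card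

theorem notMem_iff {p : ℕ} (hp : 0 < p) (T : Finset ℕ) (y : ℕ) :
    y ∉ T ↔ ∃ h, y / p = h + cnt p T h (y % p) := by
  rw [← rk_add_ht hp T y]
  constructor
  · intro hy
    refine ⟨ht p T y, ?_⟩
    rw [add_comm, cnt, rk]
    congr 2
    ext x
    simp only [mem_filter, and_congr_right_iff]
    intro hx hxy
    constructor
    · exact fun h => ht_mono T hxy h.le
    · intro h
      by_contra hc
      have h1 : y ≠ x := fun h => hy (h ▸ hx)
      have := ht_lt_ht hy hxy.symm (by omega)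
      omega
  · rintro ⟨h, hh⟩ hy
    by_cases h1 : ht p T y ≤ h
    · have : rk p T y < cnt p T h (y % p) := by
        refine Finset.card_lt_card ⟨?_, fun hc => ?_⟩
        · intro x hx
          simp only [mem_filter] at hx ⊢
          exact ⟨hx.1, hx.2.1, (ht_mono T hx.2.1 hx.2.2.le).trans h1⟩
        · have : y ∈ T.filter fun x => x % p = y % p ∧ ht p T x ≤ h := by simp [hy, h1]
          simpa using hc this
      omega
    · have : cnt p T h (y % p) ≤ rk p T y := by
        refine Finset.card_le_card fun x hx => ?_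
        simp only [mem_filter] at hx ⊢
        refine ⟨hx.1, hx.2.1, ?_⟩
        by_contra hc
        have := ht_mono T hx.2.1.symm (show y ≤ x by omega)
        omega
      omega

theorem cnt_add (p : ℕ) (T : Finset ℕ) (h ρ : ℕ) :
    cnt p T h ρ + (((qt p T).filter fun e => e.2 = ρ).filter fun e => h < e.1).card =
      (res p T).count ρ := by
  have h1 : (((qt p T).filter fun e => e.2 = ρ).filter fun e => h < e.1).card =
      (T.filter fun x => x % p = ρ ∧ ¬ ht p T x ≤ h).card := by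
    rw [qt, Multiset.filter_filter, Multiset.filter_map, Multiset.card_map, ← Finset.filter_val,
      Finset.filter_filter]
    refine congrArg Finset.card (Finset.filter_congr fun x _ => ?_)
    simp only [Function.comp]
    omega
  have h2 : (res p T).count ρ = (T.filter fun x => x % p = ρ).card := by
    rw [res, Multiset.count_map]
    refine congrArg Multiset.card (Multiset.filter_congr fun x _ => eq_comm)
  rw [h1, h2, cnt, ← Finset.filter_filter, ← Finset.filter_filter]
  exact Finset.card_filter_add_card_filter_not _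

theorem mem_iff_of_qt {p : ℕ} (hp : 0 < p) {T T' : Finset ℕ} (h : res p T = res p T') {y : ℕ}
    (hq : ((qt p T).filter fun e => e.2 = y % p) = (qt p T').filter fun e => e.2 = y % p) :
    y ∈ T ↔ y ∈ T' := by
  rw [← not_iff_not, notMem_iff hp, notMem_iff hp]
  refine exists_congr fun k => ?_
  have h1 := cnt_add p T k (y % p)
  have h2 := cnt_add p T' k (y % p)
  rw [h, hq] at h1
  rw [show cnt p T k (y % p) = cnt p T' k (y % p) by omega]

theorem eq_of_qt {p : ℕ} (hp : 0 < p) {T T' : Finset ℕ} (h : res p T = res p T')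
    (hq : qt p T = qt p T') : T = T' := by
  ext y
  exact mem_iff_of_qt hp h (by rw [hq])

theorem sum_qt (p : ℕ) (T : Finset ℕ) (g : ℕ → ℕ) :
    ((qt p T).map fun e => g e.2 * e.1).sum = ∑ x ∈ T, g (x % p) * ht p T x := by
  rw [qt, Multiset.map_map]
  change ∑ x ∈ T.filter fun x => 0 < ht p T x, g (x % p) * ht p T x = _
  rw [Finset.sum_filter]
  refine Finset.sum_congr rfl fun x _ => ?_
  split_ifs with h
  · rfl
  · rw [show ht p T x = 0 by omega, mul_zero]

theorem sum_qt_fst (p : ℕ) (T : Finset ℕ) : ((qt p T).map Prod.fst).sum = wt p T := by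
  simpa [wt] using sum_qt p T fun _ => 1

theorem mem_qt {p : ℕ} {T : Finset ℕ} {e : ℕ × ℕ} (he : e ∈ qt p T) :
    ∃ x ∈ T, 0 < ht p T x ∧ e = (ht p T x, x % p) := by
  obtain ⟨x, hx, rfl⟩ := Multiset.mem_map.1 he
  have := Finset.mem_filter.1 hx
  exact ⟨x, this.1, this.2, rfl⟩

theorem card_eq_card_image_qt {p : ℕ} (hp : 0 < p) {c : Multiset ℕ} {G : Finset (Finset ℕ)}
    (hG : ∀ T ∈ G, res p T = c) : (G.image (qt p)).card = G.card :=
  Finset.card_image_of_injOn fun T hT T' hT' h =>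
    eq_of_qt hp ((hG T hT).trans (hG T' hT').symm) h

theorem card_le_one_of_wt {p : ℕ} (hp : 0 < p) {c : Multiset ℕ} {G : Finset (Finset ℕ)}
    (hG : ∀ T ∈ G, res p T = c ∧ wt p T = 0) : G.card ≤ 1 := by
  rw [← card_eq_card_image_qt hp fun T hT => (hG T hT).1]
  refine Finset.card_le_one_iff_subset_singleton.2 ⟨0, fun m hm => ?_⟩
  obtain ⟨T, hT, rfl⟩ := Finset.mem_image.1 hm
  rw [Finset.mem_singleton, Multiset.eq_zero_iff_forall_notMem]
  intro e he
  obtain ⟨x, hx, h1, -⟩ := mem_qt he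
  have := Finset.sum_eq_zero_iff.1 (hG T hT).2 x hx
  omega

theorem qt_good {p ρ w : ℕ} (hp : 0 < p) {c : Multiset ℕ} {G : Finset (Finset ℕ)}
    (hG : ∀ T ∈ G, res p T = c ∧ wr p ρ T = 0 ∧ wt p T = w) : ∀ m ∈ G.image (qt p),
      (∀ e ∈ m, 1 ≤ e.1 ∧ e.2 ∈ (range p).erase ρ) ∧ (m.map Prod.fst).sum = w := by
  intro m hm
  obtain ⟨T, hT, rfl⟩ := Finset.mem_image.1 hm
  obtain ⟨-, h1, h2⟩ := hG T hT
  refine ⟨fun e he => ?_, by rw [sum_qt_fst, h2]⟩
  obtain ⟨x, hx, h3, rfl⟩ := mem_qt he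
  refine ⟨h3, Finset.mem_erase.2 ⟨fun h4 => ?_, Finset.mem_range.2 (Nat.mod_lt _ hp)⟩⟩
  have := Finset.sum_eq_zero_iff.1 h1 x (Finset.mem_filter.2 ⟨hx, h4⟩)
  omega

theorem card_good_le {p ρ w : ℕ} (hρ : ρ < p) {c : Multiset ℕ} {G : Finset (Finset ℕ)}
    (hG : ∀ T ∈ G, res p T = c ∧ wr p ρ T = 0 ∧ wt p T = w + 1) : G.card ≤ (p - 1) * p ^ w := by
  have hp : 0 < p := by omega
  rw [← card_eq_card_image_qt hp fun T hT => (hG T hT).1]
  have := card_multisets_le _ w (qt_good hp hG)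
  rwa [Finset.card_erase_of_mem (Finset.mem_range.2 hρ), card_range,
    show p - 1 + 1 = p by omega] at this

theorem card_good_lt_two {w : ℕ} (hw : 2 ≤ w) {c : Multiset ℕ} {G : Finset (Finset ℕ)}
    (hG : ∀ T ∈ G, res 2 T = c ∧ wr 2 0 T = 0 ∧ wt 2 T = w + 1) : G.card < 2 ^ w := by
  rw [← card_eq_card_image_qt two_pos fun T hT => (hG T hT).1]
  exact card_multisets_lt 1 w hw (qt_good two_pos hG)

theorem subset_range_of_mem_SS {n : ℕ} (hn : n ≤ N) {S : Finset ℕ} (hS : S ∈ SS N (d0 N + n)) :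
    S ⊆ range (2 * N) := by
  obtain ⟨h1, h2⟩ := mem_SS.1 hS
  intro x hx
  have h3 := sum_range_card_le (S.erase x)
  have h4 := Finset.add_sum_erase S (fun x => x) hx
  have h5 := Finset.card_pos.2 ⟨x, hx⟩
  rw [Finset.card_erase_of_mem hx, h1] at h3
  obtain ⟨K, rfl⟩ : ∃ K, N = K + 1 := ⟨N - 1, by omega⟩
  rw [d0, Finset.sum_range_succ] at h2
  simp only [Nat.add_sub_cancel] at h3 h4
  rw [mem_range]
  omega

theorem cj_mem_SS {n : ℕ} (hn : n ≤ N) {S : Finset ℕ} (hS : S ∈ SS N (d0 N + n)) :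
    cj (2 * N) S ∈ SS N (d0 N + n) := by
  have h := subset_range_of_mem_SS hn hS
  obtain ⟨h1, h2⟩ := mem_SS.1 hS
  exact mem_SS.2 ⟨card_cj_two h h1, by rw [sum_cj_two h h1, h2]⟩

theorem reflect_mod {p M y : ℕ} (hM : p ∣ M) (hy : y < M) : (M - 1 - y) % p = p - 1 - y % p := by
  obtain ⟨K, rfl⟩ := hM
  have hp : 0 < p := Nat.pos_of_ne_zero (by rintro rfl; simp at hy)
  have h1 := Nat.mod_lt y hp
  have h2 := Nat.mod_add_div y p
  have h3 : y / p < K := Nat.div_lt_of_lt_mul hy
  obtain ⟨t, rfl⟩ : ∃ t, K = y / p + t + 1 := ⟨K - y / p - 1, by omega⟩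
  have h4 : p * (y / p + t + 1) - 1 - y = p - 1 - y % p + p * t := by
    rw [mul_add, mul_add, mul_one]; omega
  rw [h4, Nat.add_mul_mod_self_left, Nat.mod_eq_of_lt (by omega)]

theorem wr_eq_card (p ρ : ℕ) (M : ℕ) {T : Finset ℕ} (hT : T ⊆ range M) : wr p ρ T =
    ((range M ×ˢ range M).filter fun e =>
      e.1 ∈ T ∧ e.2 ∉ T ∧ e.2 < e.1 ∧ e.1 % p = ρ ∧ e.2 % p = ρ).card := by
  rw [Finset.card_filter, Finset.sum_product, wr, Finset.sum_filter]
  rw [← Finset.sum_subset hT (fun x _ hx => by simp [hx])]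
  refine Finset.sum_congr rfl fun x hx => ?_
  rw [← Finset.card_filter]
  split_ifs with h
  · rw [ht]
    congr 1
    ext y
    have : x < M := by simpa using hT hx
    simp only [mem_filter, mem_range, hx, h, true_and]
    constructor
    · rintro ⟨h1, h2, h3⟩; exact ⟨by omega, h3, h1, h2⟩
    · rintro ⟨-, h2, h3, h4⟩; exact ⟨h3, h4, h2⟩
  · simp [h]

theorem wr_cj {p ρ M : ℕ} (hM : p ∣ M) (hρ : ρ < p) {T : Finset ℕ} (hT : T ⊆ range M) :
    wr p (p - 1 - ρ) (cj M T) = wr p ρ T := by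
  rw [wr_eq_card p _ M (cj_subset M T), wr_eq_card p _ M hT]
  refine Finset.card_nbij' (fun e => (M - 1 - e.2, M - 1 - e.1))
    (fun e => (M - 1 - e.2, M - 1 - e.1)) ?_ ?_ ?_ ?_
  · rintro ⟨x, y⟩ he
    simp only [coe_filter, mem_product, mem_range, mem_cj, Set.mem_ofPred_eq, not_and,
      not_not] at he ⊢
    obtain ⟨⟨h1, h2⟩, ⟨-, h3⟩, h4, h5, h6, h7⟩ := he
    refine ⟨⟨by omega, by omega⟩, h4 h2, h3, by omega, ?_, ?_⟩
    · rw [reflect_mod hM h2]; omega
    · rw [reflect_mod hM h1]; omega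
  · rintro ⟨x, y⟩ he
    simp only [coe_filter, mem_product, mem_range, mem_cj, Set.mem_ofPred_eq, not_and,
      not_not] at he ⊢
    obtain ⟨⟨h1, h2⟩, h3, h4, h5, h6, h7⟩ := he
    refine ⟨⟨by omega, by omega⟩, ⟨by omega, ?_⟩, fun _ => ?_, by omega, ?_, ?_⟩
    · rwa [show M - 1 - (M - 1 - y) = y by omega]
    · rwa [show M - 1 - (M - 1 - x) = x by omega]
    · rw [reflect_mod hM h2, h7]
    · rw [reflect_mod hM h1, h6]
  · rintro ⟨x, y⟩ he
    simp only [coe_filter, mem_product, mem_range, Set.mem_ofPred_eq] at he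
    simp only [Prod.mk.injEq]
    omega
  · rintro ⟨x, y⟩ he
    simp only [coe_filter, mem_product, mem_range, Set.mem_ofPred_eq] at he
    simp only [Prod.mk.injEq]
    omega

theorem sum_mul_wr {p : ℕ} (hp : 0 < p) (T : Finset ℕ) (g : ℕ → ℕ) :
    ∑ x ∈ T, g (x % p) * ht p T x = ∑ ρ ∈ range p, g ρ * wr p ρ T := by
  rw [← Finset.sum_fiberwise_of_maps_to (s := T) (t := range p) (g := fun x => x % p)
    (fun x _ => Finset.mem_range.2 (Nat.mod_lt _ hp))]
  refine Finset.sum_congr rfl fun ρ _ => ?_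
  rw [wr, Finset.mul_sum]
  refine Finset.sum_congr rfl fun x hx => ?_
  rw [(Finset.mem_filter.1 hx).2]

theorem sum_half {p M : ℕ} (hp : 0 < p) (hM : p ∣ M) {T : Finset ℕ} (hT : cj M T = T) :
    ((qt p T).map fun e =>
      (if 2 * e.2 + 1 < p then 2 else if 2 * e.2 + 1 = p then 1 else 0) * e.1).sum = wt p T := by
  set g : ℕ → ℕ := fun ρ => if 2 * ρ + 1 < p then 2 else if 2 * ρ + 1 = p then 1 else 0 with hg
  have h1 := sum_qt p T g
  have h2 := sum_mul_wr hp T g
  have h3 := sum_mul_wr hp T fun _ => 1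
  simp only [one_mul] at h3
  have h4 := Finset.sum_range_reflect (fun ρ => g ρ * wr p ρ T) p
  have h5 : ∑ ρ ∈ range p, g (p - 1 - ρ) * wr p (p - 1 - ρ) T + ∑ ρ ∈ range p, g ρ * wr p ρ T =
      2 * ∑ ρ ∈ range p, wr p ρ T := by
    rw [← Finset.sum_add_distrib, Finset.mul_sum]
    refine Finset.sum_congr rfl fun ρ hρ => ?_
    have hρ' : ρ < p := Finset.mem_range.1 hρ
    have := wr_cj hM hρ' (T := T) (hT ▸ cj_subset M T)
    rw [hT] at this
    rw [this, ← add_mul]
    congr 1
    simp only [hg]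
    split_ifs <;> omega
  change ((qt p T).map fun e => g e.2 * e.1).sum = ∑ x ∈ T, ht p T x
  omega

theorem eq_of_qt_half {p M : ℕ} (hp : 0 < p) (hM : p ∣ M) {T T' : Finset ℕ} (hT : cj M T = T)
    (hT' : cj M T' = T') (h : res p T = res p T')
    (hq : ((qt p T).filter fun e => 2 * e.2 + 1 ≤ p) = (qt p T').filter fun e => 2 * e.2 + 1 ≤ p) :
    T = T' := by
  have key : ∀ y, 2 * (y % p) + 1 ≤ p → (y ∈ T ↔ y ∈ T') := by
    intro y hy
    refine mem_iff_of_qt hp h ?_
    have := congrArg (Multiset.filter fun e : ℕ × ℕ => e.2 = y % p) hq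
    rw [Multiset.filter_filter, Multiset.filter_filter] at this
    have h1 : ∀ m : Multiset (ℕ × ℕ), m.filter (fun e => e.2 = y % p ∧ 2 * e.2 + 1 ≤ p) =
        m.filter fun e => e.2 = y % p := fun m => Multiset.filter_congr fun e _ =>
      ⟨fun h => h.1, fun h => ⟨h, h ▸ hy⟩⟩
    rwa [h1, h1] at this
  ext y
  by_cases hy : 2 * (y % p) + 1 ≤ p
  · exact key y hy
  · rw [← hT, ← hT', mem_cj, mem_cj]
    refine and_congr_right fun h1 => not_congr (key _ ?_)
    rw [reflect_mod hM h1]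
    have := Nat.mod_lt y hp
    omega

theorem card_selfConj_odd {h M w : ℕ} (hh : 1 ≤ h) (hM : 2 * h + 1 ∣ M) {c : Multiset ℕ}
    {G : Finset (Finset ℕ)}
    (hG : ∀ T ∈ G, res (2 * h + 1) T = c ∧ cj M T = T ∧ wt (2 * h + 1) T = w + 1) :
    G.card ≤ (2 * h + 1) ^ w := by
  set p := 2 * h + 1 with hp
  have hp0 : 0 < p := by omega
  let f : ℕ × ℕ → ℕ × ℕ := fun e => if e.2 < h then (2 * e.1, e.2) else e
  have hf : Function.Injective f := by
    rintro ⟨a, b⟩ ⟨a', b'⟩ he
    simp only [f] at he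
    split_ifs at he <;> simp only [Prod.mk.injEq] at he ⊢ <;> omega
  have h1 : (G.image fun T => ((qt p T).filter fun e => 2 * e.2 + 1 ≤ p).map f).card = G.card :=
    Finset.card_image_of_injOn fun T hT T' hT' h =>
      eq_of_qt_half hp0 hM (hG T hT).2.1 (hG T' hT').2.1 ((hG T hT).1.trans (hG T' hT').1.symm)
        (Multiset.map_injective hf h)
  obtain ⟨F, hF, hF'⟩ := exists_cover_lists' hh w
  rw [← h1]
  refine (card_le_of_cover hF' ?_).trans (Finset.card_image_le.trans hF)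
  intro m hm
  obtain ⟨T, hT, rfl⟩ := Finset.mem_image.1 hm
  constructor
  · intro e he
    obtain ⟨e', he', rfl⟩ := Multiset.mem_map.1 he
    obtain ⟨h2, h3⟩ := Multiset.mem_filter.1 he'
    obtain ⟨x, -, h4, rfl⟩ := mem_qt h2
    simp only [f] at h3 ⊢
    split_ifs with h5
    · exact ⟨by simp only; omega, by simp only; omega, fun _ => by simp⟩
    · exact ⟨h4, by simp only; omega, fun h6 => absurd h6 h5⟩
  · rw [← (hG T hT).2.2, ← sum_half hp0 hM (hG T hT).2.1, Multiset.map_map]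
    conv_rhs => rw [← Multiset.filter_add_not (fun e : ℕ × ℕ => 2 * e.2 + 1 ≤ p) (qt p T),
      Multiset.map_add, Multiset.sum_add]
    rw [Multiset.sum_eq_zero (s := Multiset.map _ (Multiset.filter (fun e => ¬ _) _)), add_zero]
    · refine congrArg Multiset.sum (Multiset.map_congr rfl fun e he => ?_)
      have := (Multiset.mem_filter.1 he).2
      simp only [Function.comp, f]
      split_ifs <;> first | rfl | omega
    · intro a ha
      obtain ⟨e, he, rfl⟩ := Multiset.mem_map.1 ha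
      have := (Multiset.mem_filter.1 he).2
      rw [if_neg (by omega), if_neg (by omega), zero_mul]

theorem two_mul_sum_half {M : ℕ} (hM : 2 ∣ M) {T : Finset ℕ} (hT : cj M T = T) :
    2 * (((qt 2 T).filter fun e => 2 * e.2 + 1 ≤ 2).map Prod.fst).sum = wt 2 T := by
  rw [← sum_half two_pos hM hT, ← Multiset.sum_map_mul_left]
  conv_rhs => rw [← Multiset.filter_add_not (fun e : ℕ × ℕ => 2 * e.2 + 1 ≤ 2) (qt 2 T),
    Multiset.map_add, Multiset.sum_add]
  rw [Multiset.sum_eq_zero (s := Multiset.map _ (Multiset.filter (fun e => ¬ _) _)), add_zero]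
  · refine congrArg Multiset.sum (Multiset.map_congr rfl fun e he => ?_)
    have := (Multiset.mem_filter.1 he).2
    rw [if_pos (by omega)]
  · intro a ha
    obtain ⟨e, he, rfl⟩ := Multiset.mem_map.1 ha
    have := (Multiset.mem_filter.1 he).2
    rw [if_neg (by omega), if_neg (by omega), zero_mul]

theorem card_selfConj_two {M k : ℕ} (hM : 2 ∣ M) {c : Multiset ℕ} {G : Finset (Finset ℕ)}
    (hG : ∀ T ∈ G, res 2 T = c ∧ cj M T = T ∧ wt 2 T = 2 * (k + 1)) : G.card ≤ 2 ^ k := by
  have h1 : (G.image fun T => (qt 2 T).filter fun e => 2 * e.2 + 1 ≤ 2).card = G.card :=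
    Finset.card_image_of_injOn fun T hT T' hT' h =>
      eq_of_qt_half two_pos hM (hG T hT).2.1 (hG T' hT').2.1
        ((hG T hT).1.trans (hG T' hT').1.symm) h
  rw [← h1]
  refine le_trans (card_multisets_le {0} k ?_) (by simp)
  intro m hm
  obtain ⟨T, hT, rfl⟩ := Finset.mem_image.1 hm
  constructor
  · intro e he
    obtain ⟨h2, h3⟩ := Multiset.mem_filter.1 he
    obtain ⟨x, -, h4, rfl⟩ := mem_qt h2
    exact ⟨h4, by simp only [mem_singleton] at h3 ⊢; omega⟩
  · have := two_mul_sum_half hM (hG T hT).2.1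
    rw [(hG T hT).2.2] at this
    omega

end SFock
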