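import Mathlib

/-!
# A Fock-space model for the characters of the symmetric groups

Coefficient functions of alternating polynomials, the operators "multiply by a power sum" (`L`) and
its adjoint (`R`), their commutation relation and the resulting Gram matrix.
-/

namespace SFock

open Finset

variable {N : ℕ}

/-- Coefficient functions of polynomials in `N` variables. -/
abbrev Fn (N : ℕ) := (Fin N → ℕ) → ℂ

/-- The tuple with a single nonzero entry. -/
abbrev sg (i : Fin N) (r : ℕ) : Fin N → ℕ := Pi.single i r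

/-- Multiplication by the power sum of degree `r`. -/
noncomputable def L (r : ℕ) (F : Fn N) : Fn N :=
  fun β => ∑ i, if r ≤ β i then F (β - sg i r) else 0

/-- The adjoint of `L r`. -/
noncomputable def R (r : ℕ) (F : Fn N) : Fn N := fun β => ∑ i, F (β + sg i r)

/-- Alternating functions. -/
def Alt (F : Fn N) : Prop :=
  ∀ (τ : Equiv.Perm (Fin N)) (β : Fin N → ℕ), F (β ∘ τ) = ((Equiv.Perm.sign τ : ℤ) : ℂ) * F β

/-- Homogeneous of degree `d`. -/
def Hom (d : ℕ) (F : Fn N) : Prop := ∀ β, F β ≠ 0 → ∑ i, β i = d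

/-- The degree of the Vandermonde determinant. -/
def d0 (N : ℕ) : ℕ := ∑ i ∈ range N, i

theorem Alt.eq_zero {F : Fn N} (hF : Alt F) {β : Fin N → ℕ} (h : ¬ Function.Injective β) :
    F β = 0 := by
  obtain ⟨i, j, hij, hne⟩ : ∃ i j, β i = β j ∧ i ≠ j := by
    by_contra hc
    push Not at hc
    exact h fun i j hij => hc i j hij
  have h1 := hF (Equiv.swap i j) β
  have h2 : β ∘ Equiv.swap i j = β := by
    funext k
    simp only [Function.comp]
    rcases eq_or_ne k i with rfl | hki
    · simp [hij]
    rcases eq_or_ne k j with rfl | hkj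
    · simp [hij]
    · rw [Equiv.swap_apply_of_ne_of_ne hki hkj]
  rw [h2, Equiv.Perm.sign_swap hne] at h1
  have h3 : (2 : ℂ) * F β = 0 := by
    simp only [Units.val_neg, Units.val_one, Int.cast_neg, Int.cast_one] at h1
    linear_combination h1
  simpa using h3

theorem single_comp (τ : Equiv.Perm (Fin N)) (i : Fin N) (r : ℕ) :
    (sg (τ i) r : Fin N → ℕ) ∘ τ = sg i r := by
  funext k
  simp only [Function.comp, Pi.single_apply, EmbeddingLike.apply_eq_iff_eq]

theorem Alt.L {F : Fn N} (hF : Alt F) (r : ℕ) : Alt (L r F) := by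
  intro τ β
  simp only [SFock.L]
  rw [Finset.mul_sum, ← Equiv.sum_comp τ (fun i => ((Equiv.Perm.sign τ : ℤ) : ℂ) *
    (if r ≤ β i then F (β - sg i r) else 0))]
  refine Finset.sum_congr rfl fun i _ => ?_
  have : β ∘ τ - sg i r = (β - sg (τ i) r) ∘ τ := by
    rw [← single_comp τ i r]; rfl
  rw [this, hF]
  simp only [Function.comp]
  split_ifs <;> simp

theorem Alt.R {F : Fn N} (hF : Alt F) (r : ℕ) : Alt (R r F) := by
  intro τ β
  simp only [SFock.R]
  rw [Finset.mul_sum, ← Equiv.sum_comp τ (fun i => ((Equiv.Perm.sign τ : ℤ) : ℂ) *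
    F (β + sg i r))]
  refine Finset.sum_congr rfl fun i _ => ?_
  have : β ∘ τ + sg i r = (β + sg (τ i) r) ∘ τ := by
    rw [← single_comp τ i r]; rfl
  rw [this, hF]

theorem sum_add_single (β : Fin N → ℕ) (i : Fin N) (r : ℕ) :
    ∑ j, (β + sg i r : Fin N → ℕ) j = ∑ j, β j + r := by
  simp [Finset.sum_add_distrib]

theorem sub_add_single {β : Fin N → ℕ} {i : Fin N} {r : ℕ} (h : r ≤ β i) :
    β - sg i r + sg i r = β := by
  funext k
  simp only [Pi.add_apply, Pi.sub_apply, Pi.single_apply]
  split_ifs with hk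
  · subst hk; omega
  · simp

theorem add_sub_single (β : Fin N → ℕ) (i : Fin N) (r : ℕ) :
    β + sg i r - sg i r = β := by
  funext k
  simp

theorem sum_sub_single {β : Fin N → ℕ} {i : Fin N} {r : ℕ} (h : r ≤ β i) :
    ∑ j, (β - sg i r : Fin N → ℕ) j + r = ∑ j, β j := by
  rw [← sum_add_single, sub_add_single h]

theorem Hom.L {d : ℕ} {F : Fn N} (hF : Hom d F) (r : ℕ) : Hom (d + r) (L r F) := by
  intro β hβ
  obtain ⟨i, -, hi⟩ := Finset.exists_ne_zero_of_sum_ne_zero hβ
  split_ifs at hi with h
  · rw [← hF _ hi, sum_sub_single h]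
  · exact absurd rfl hi

theorem sum_range_card_le (s : Finset ℕ) : ∑ i ∈ range s.card, i ≤ ∑ x ∈ s, x := by
  have h := Finset.sum_range_le_sum (s := s.image (Nat.cast : ℕ → ℤ)) (c := 0) (by
    intro x hx
    obtain ⟨y, -, rfl⟩ := Finset.mem_image.1 hx
    positivity)
  rw [Finset.card_image_of_injective _ Nat.cast_injective,
    Finset.sum_image (fun x _ y _ h => Nat.cast_injective h)] at h
  simp only [zero_add] at h
  rw [← Nat.cast_sum, ← Nat.cast_sum] at h
  exact_mod_cast h

theorem d0_le_sum {β : Fin N → ℕ} (h : Function.Injective β) : d0 N ≤ ∑ i, β i := by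
  have := sum_range_card_le (univ.image β)
  rw [Finset.card_image_of_injective _ h, Finset.sum_image (fun x _ y _ hxy => h hxy)] at this
  simpa [d0] using this

theorem card_lt_le {β : Fin N → ℕ} (h : Function.Injective β) (t : ℕ) :
    (univ.filter fun i => β i < t).card ≤ t := by
  conv_rhs => rw [← Finset.card_range t]
  exact Finset.card_le_card_of_injOn β (fun i hi => by simpa using hi) h.injOn

/-- Small numbers are values of an injective tuple of small degree. -/
theorem exists_eq_of_lt {β : Fin N → ℕ} (h : Function.Injective β) {m t : ℕ}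
    (hs : ∑ i, β i = d0 N + m) (ht : t + m < N) : ∃ i, β i = t := by
  by_contra hc
  push Not at hc
  set β' : Fin N → ℕ := fun i => if t < β i then β i - 1 else β i with hβ'
  have hinj : Function.Injective β' := by
    intro i j hij
    apply h
    have hi := hc i
    have hj := hc j
    simp only [hβ'] at hij
    split_ifs at hij <;> omega
  have h1 := d0_le_sum hinj
  have h2 : ∑ i, β i = ∑ i, β' i + (univ.filter fun i => t < β i).card := by
    rw [Finset.card_filter, ← Finset.sum_add_distrib]
    refine Finset.sum_congr rfl fun i _ => ?_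
    simp only [hβ']
    split_ifs <;> omega
  have h3 := card_lt_le h t
  have h4 : (univ.filter fun i => β i < t).card + (univ.filter fun i => t < β i).card = N := by
    have := Finset.card_filter_add_card_filter_not (s := (univ : Finset (Fin N)))
      (fun i => β i < t)
    rw [Finset.card_univ, Fintype.card_fin] at this
    refine Eq.trans ?_ this
    congr 2
    ext i
    have := hc i
    simp only [mem_filter, mem_univ, true_and]
    omega
  omega

theorem card_lt_eq {β : Fin N → ℕ} (h : Function.Injective β) {m s : ℕ}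
    (hs : ∑ i, β i = d0 N + m) (ht : s + m ≤ N) : (univ.filter fun i => β i < s).card = s := by
  refine le_antisymm (card_lt_le h s) ?_
  conv_lhs => rw [← Finset.card_range s]
  refine Finset.card_le_card_of_surjOn β ?_
  intro t ht'
  have : t < s := by simpa using ht'
  obtain ⟨i, hi⟩ := exists_eq_of_lt h hs (t := t) (by omega)
  exact ⟨i, by simp [hi, this], hi⟩

/-- The commutation relation. -/
theorem R_L {F : Fn N} (hF : Alt F) {m : ℕ} (hd : Hom (d0 N + m) F) {s : ℕ} (hs : s + m ≤ N)
    (r : ℕ) : R r (L s F) = L s (R r F) + if r = s then (r : ℂ) • F else 0 := by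
  funext β
  by_cases hβ : Function.Injective β
  swap
  · rw [((hF.L s).R r).eq_zero hβ, Pi.add_apply, ((hF.R r).L s).eq_zero hβ]
    split_ifs
    · simp [hF.eq_zero hβ]
    · simp
  have key : R r (L s F) β = L s (R r F) β +
      ∑ i, if β i < s ∧ s ≤ β i + r then F (β + sg i r - sg i s) else 0 := by
    simp only [R, L]
    rw [Finset.sum_comm, ← Finset.sum_add_distrib]
    refine Finset.sum_congr rfl fun j _ => ?_
    by_cases hj : s ≤ β j
    · rw [if_pos hj, if_neg (by omega), add_zero]
      refine Finset.sum_congr rfl fun i _ => ?_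
      rw [if_pos (le_trans hj (by simp))]
      congr 1
      funext k
      simp only [Pi.add_apply, Pi.sub_apply, Pi.single_apply]
      split_ifs with h1 h2 h2
      · subst h2; omega
      · omega
      · subst h2; omega
      · omega
    · rw [if_neg hj, zero_add, Finset.sum_eq_single j]
      · simp only [Pi.add_apply, Pi.single_eq_same]
        by_cases h2 : s ≤ β j + r
        · rw [if_pos h2, if_pos ⟨by omega, h2⟩]
        · rw [if_neg h2, if_neg (fun h => h2 h.2)]
      · intro i _ hij
        rw [if_neg]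
        simpa [Pi.single_apply, hij.symm] using hj
      · simp
  rw [key, Pi.add_apply]
  congr 1
  split_ifs with hrs
  · subst hrs
    by_cases h0 : F β = 0
    · simp [h0]
    have h1 := card_lt_eq hβ (hd β h0) hs
    simp only [add_sub_single, Pi.smul_apply, smul_eq_mul]
    rw [← Finset.sum_filter, Finset.sum_const, nsmul_eq_mul]
    congr 2
    refine Eq.trans ?_ h1
    congr 1
    ext i
    simp
  · refine Finset.sum_eq_zero fun i _ => ?_
    split_ifs with h
    · by_contra h0
      set γ := β + sg i r - sg i s with hγ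
      have hγi : Function.Injective γ := by
        by_contra hc
        exact h0 (hF.eq_zero hc)
      obtain ⟨j, hj⟩ := exists_eq_of_lt hγi (hd γ h0) (t := β i) (by omega)
      by_cases hij : j = i
      · subst hij
        simp only [hγ, Pi.sub_apply, Pi.add_apply, Pi.single_eq_same] at hj
        omega
      · simp only [hγ, Pi.sub_apply, Pi.add_apply, Pi.single_eq_of_ne hij] at hj
        exact hij (hβ (by simpa using hj))
    · rfl


theorem L_smul (r : ℕ) (c : ℂ) (F : Fn N) : L r (c • F) = c • L r F := by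
  funext β
  simp only [L, Pi.smul_apply, smul_eq_mul, Finset.mul_sum]
  refine Finset.sum_congr rfl fun i _ => ?_
  split_ifs <;> simp

/-- The coefficient function of a polynomial. -/
noncomputable def co (P : MvPolynomial (Fin N) ℂ) : Fn N :=
  fun β => MvPolynomial.coeff (Finsupp.equivFunOnFinite.symm β) P

theorem co_monomial_mul (γ : Fin N → ℕ) (c : ℂ) (P : MvPolynomial (Fin N) ℂ) (β : Fin N → ℕ) :
    co (MvPolynomial.monomial (Finsupp.equivFunOnFinite.symm γ) c * P) β =
      if ∀ i, γ i ≤ β i then c * co P (β - γ) else 0 := by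
  simp only [co]
  rw [MvPolynomial.coeff_monomial_mul']
  have h1 : (Finsupp.equivFunOnFinite.symm γ ≤ Finsupp.equivFunOnFinite.symm β) ↔
      ∀ i, γ i ≤ β i := by
    rw [Finsupp.le_def]; rfl
  have h2 : Finsupp.equivFunOnFinite.symm β - Finsupp.equivFunOnFinite.symm γ =
      Finsupp.equivFunOnFinite.symm (β - γ) := by
    ext i; simp
  rw [h2]
  simp only [h1]

theorem co_sum {κ : Type*} (s : Finset κ) (f : κ → MvPolynomial (Fin N) ℂ) (β : Fin N → ℕ) :
    co (∑ k ∈ s, f k) β = ∑ k ∈ s, co (f k) β := by
  simp only [co, MvPolynomial.coeff_sum]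

theorem X_pow_eq (i : Fin N) (r : ℕ) : (MvPolynomial.X i : MvPolynomial (Fin N) ℂ) ^ r =
    MvPolynomial.monomial (Finsupp.equivFunOnFinite.symm (sg i r)) 1 := by
  rw [MvPolynomial.X_pow_eq_monomial]
  congr 2
  ext k
  simp [Finsupp.single_apply]

theorem co_psum_mul (r : ℕ) (P : MvPolynomial (Fin N) ℂ) :
    co (MvPolynomial.psum (Fin N) ℂ r * P) = L r (co P) := by
  funext β
  rw [MvPolynomial.psum, Finset.sum_mul, co_sum, L]
  refine Finset.sum_congr rfl fun i _ => ?_
  rw [X_pow_eq, co_monomial_mul, one_mul]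
  have : (∀ k, sg i r k ≤ β k) ↔ r ≤ β i := by
    constructor
    · intro h; simpa using h i
    · intro h k
      simp only [Pi.single_apply]
      split_ifs with hk
      · subst hk; exact h
      · simp
  simp only [this]

/-- The tuple of values of a permutation. -/
def pv (σ : Equiv.Perm (Fin N)) : Fin N → ℕ := fun i => (σ i : ℕ)

theorem pv_injective : Function.Injective (pv (N := N)) := by
  intro σ τ h
  ext i
  exact congrFun h i

theorem sum_pv (σ : Equiv.Perm (Fin N)) : ∑ i, pv σ i = d0 N := by
  rw [d0, ← Fin.sum_univ_eq_sum_range (fun i => i)]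
  exact Equiv.sum_comp σ (fun i : Fin N => (i : ℕ))

/-- The Vandermonde determinant. -/
noncomputable def aD (N : ℕ) : MvPolynomial (Fin N) ℂ :=
  ∑ σ : Equiv.Perm (Fin N),
    MvPolynomial.monomial (Finsupp.equivFunOnFinite.symm (pv σ)) ((Equiv.Perm.sign σ : ℤ) : ℂ)

theorem co_aD (β : Fin N → ℕ) : co (aD N) β =
    ∑ σ : Equiv.Perm (Fin N), if pv σ = β then ((Equiv.Perm.sign σ : ℤ) : ℂ) else 0 := by
  rw [aD, co_sum]
  refine Finset.sum_congr rfl fun σ _ => ?_
  simp only [co, MvPolynomial.coeff_monomial, EmbeddingLike.apply_eq_iff_eq]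

theorem co_aD_pv (σ : Equiv.Perm (Fin N)) : co (aD N) (pv σ) = ((Equiv.Perm.sign σ : ℤ) : ℂ) := by
  rw [co_aD, Finset.sum_eq_single σ]
  · simp
  · intro τ _ h
    rw [if_neg (fun h' => h (pv_injective h'))]
  · simp

theorem exists_pv_of_ne_zero {β : Fin N → ℕ} (h : co (aD N) β ≠ 0) : ∃ σ, pv σ = β := by
  rw [co_aD] at h
  obtain ⟨σ, -, hσ⟩ := Finset.exists_ne_zero_of_sum_ne_zero h
  exact ⟨σ, by by_contra hc; exact hσ (if_neg hc)⟩

theorem alt_aD : Alt (co (aD N)) := by
  intro τ β
  by_cases h : ∃ σ, pv σ = β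
  · obtain ⟨σ, rfl⟩ := h
    have : pv σ ∘ τ = pv (σ * τ) := rfl
    rw [this, co_aD_pv, co_aD_pv, map_mul]
    push_cast
    ring
  · have h1 : co (aD N) β = 0 := by
      by_contra hc; exact h (exists_pv_of_ne_zero hc)
    have h2 : co (aD N) (β ∘ τ) = 0 := by
      by_contra hc
      obtain ⟨σ, hσ⟩ := exists_pv_of_ne_zero hc
      refine h ⟨σ * τ⁻¹, ?_⟩
      funext i
      have := congrFun hσ (τ⁻¹ i)
      simpa [pv] using this
    rw [h1, h2, mul_zero]

theorem hom_aD : Hom (d0 N) (co (aD N)) := by
  intro β h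
  obtain ⟨σ, rfl⟩ := exists_pv_of_ne_zero h
  exact sum_pv σ

/-- The product of power sums attached to a multiset. -/
noncomputable def PP (N : ℕ) (μ : Multiset ℕ) : MvPolynomial (Fin N) ℂ :=
  (μ.map (MvPolynomial.psum (Fin N) ℂ)).prod

/-- Frobenius's generating function: its values are the character values of the symmetric group. -/
noncomputable def X (N : ℕ) (μ : Multiset ℕ) : Fn N := co (PP N μ * aD N)

theorem X_zero : X N 0 = co (aD N) := by simp [X, PP]

theorem X_cons (r : ℕ) (μ : Multiset ℕ) : X N (r ::ₘ μ) = L r (X N μ) := by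
  simp only [X, PP, Multiset.map_cons, Multiset.prod_cons, mul_assoc, co_psum_mul]

theorem alt_X (μ : Multiset ℕ) : Alt (X N μ) := by
  induction μ using Multiset.induction_on with
  | empty => rw [X_zero]; exact alt_aD
  | cons r μ ih => rw [X_cons]; exact ih.L r

theorem hom_X (μ : Multiset ℕ) : Hom (d0 N + μ.sum) (X N μ) := by
  induction μ using Multiset.induction_on with
  | empty => rw [X_zero]; simpa using hom_aD
  | cons r μ ih =>
    rw [X_cons, Multiset.sum_cons, add_comm r, ← add_assoc]; exact ih.L r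

theorem R_X {r : ℕ} (hr : 0 < r) (ν : Multiset ℕ) (hν : ν.sum ≤ N) :
    R r (X N ν) = ((r * ν.count r : ℕ) : ℂ) • X N (ν.erase r) := by
  induction ν using Multiset.induction_on with
  | empty =>
    funext β
    simp only [Multiset.count_zero, mul_zero, Nat.cast_zero, zero_smul, Pi.zero_apply]
    by_cases hβ : Function.Injective β
    · refine Finset.sum_eq_zero fun i _ => ?_
      by_contra hc
      have h1 := hom_X 0 _ hc
      rw [sum_add_single] at h1
      have := d0_le_sum hβ
      simp only [Multiset.sum_zero] at h1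
      omega
    · exact ((alt_X 0).R r).eq_zero hβ
  | cons s ν ih =>
    rw [Multiset.sum_cons] at hν
    rw [X_cons, R_L (alt_X ν) (hom_X ν) hν, ih (by omega), L_smul, ← X_cons]
    by_cases hrs : r = s
    · subst hrs
      rw [if_pos rfl, Multiset.erase_cons_head, Multiset.count_cons_self]
      by_cases hm : r ∈ ν
      · rw [Multiset.cons_erase hm, ← add_smul]
        congr 1
        push_cast; ring
      · rw [Multiset.count_eq_zero_of_notMem hm]
        simp
    · rw [if_neg hrs, add_zero, Multiset.count_cons_of_ne hrs, Multiset.erase_cons_tail _ (Ne.symm hrs)]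

/-- Tuples of a given degree. -/
abbrev A (N d : ℕ) : Finset (Fin N → ℕ) := Finset.piAntidiag univ d

theorem mem_A {d : ℕ} {β : Fin N → ℕ} : β ∈ A N d ↔ ∑ i, β i = d := by
  simp [A]

/-- `L` and `R` are adjoint, also with a weight that does not see the step. -/
theorem sum_L (w F G : Fn N) (d r : ℕ) (hw : ∀ β i, w (β + sg i r) = w β) :
    ∑ β ∈ A N (d + r), w β * (L r F β * G β) = ∑ γ ∈ A N d, w γ * (F γ * R r G γ) := by
  simp only [L, R, Finset.sum_mul, Finset.mul_sum]
  rw [Finset.sum_comm, Finset.sum_comm (s := A N d)]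
  refine Finset.sum_congr rfl fun i _ => ?_
  simp only [ite_mul, zero_mul, mul_ite, mul_zero]
  rw [← Finset.sum_filter]
  symm
  refine Finset.sum_nbij' (fun γ => γ + sg i r) (fun β => β - sg i r) ?_ ?_ ?_ ?_ ?_
  · intro γ hγ
    rw [mem_A] at hγ
    simp only [mem_filter, mem_A, sum_add_single, hγ, true_and]
    simp
  · intro β hβ
    simp only [mem_filter, mem_A] at hβ
    have := sum_sub_single hβ.2
    rw [mem_A]; omega
  · intro γ _; exact add_sub_single γ i r
  · intro β hβ
    simp only [mem_filter] at hβ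
    exact sub_add_single hβ.2
  · intro γ _
    rw [hw, add_sub_single]

/-- The order of the centralizer of a permutation with the given cycle lengths. -/
def zz (μ : Multiset ℕ) : ℕ := μ.prod * ∏ r ∈ μ.toFinset, (μ.count r).factorial

theorem zz_cons (r : ℕ) (μ : Multiset ℕ) : zz (r ::ₘ μ) = r * (μ.count r + 1) * zz μ := by
  have h : ∏ s ∈ (r ::ₘ μ).toFinset, ((r ::ₘ μ).count s).factorial =
      (μ.count r + 1) * ∏ s ∈ μ.toFinset, (μ.count s).factorial := by
    have h1 : ∏ s ∈ μ.toFinset, (μ.count s).factorial =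
        ∏ s ∈ (r ::ₘ μ).toFinset, (μ.count s).factorial := by
      refine Finset.prod_subset (by intro x hx; simp at hx ⊢; exact Or.inr hx) ?_
      intro x _ hx
      rw [Multiset.count_eq_zero_of_notMem (by simpa using hx)]; rfl
    have hr : r ∈ (r ::ₘ μ).toFinset := by simp
    rw [h1, ← Finset.mul_prod_erase _ _ hr, ← Finset.mul_prod_erase _ _ hr,
      Multiset.count_cons_self, Nat.factorial_succ, mul_assoc]
    congr 2
    refine Finset.prod_congr rfl fun s hs => ?_
    rw [Multiset.count_cons_of_ne (Finset.ne_of_mem_erase hs)]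
  simp only [zz, Multiset.prod_cons, h]
  ring

theorem zz_add_replicate {μ : Multiset ℕ} (h : 1 ∉ μ) (k : ℕ) :
    zz (μ + Multiset.replicate k 1) = k.factorial * zz μ := by
  induction k with
  | zero => simp
  | succ k ih =>
    rw [Multiset.replicate_succ, Multiset.add_cons, zz_cons, ih, Multiset.count_add,
      Multiset.count_eq_zero_of_notMem h, Multiset.count_replicate_self, Nat.factorial_succ]
    ring

/-- The Gram matrix of Frobenius's generating functions. -/
theorem gram (μ : Multiset ℕ) : ∀ ν : Multiset ℕ, (∀ r ∈ μ, 0 < r) → (∀ r ∈ ν, 0 < r) →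
    ν.sum = μ.sum → μ.sum ≤ N → ∑ β ∈ A N (d0 N + μ.sum), X N μ β * X N ν β =
      if μ = ν then ((N.factorial * zz μ : ℕ) : ℂ) else 0 := by
  induction μ using Multiset.induction_on with
  | empty =>
    intro ν _ hν hs _
    have : ν = 0 := by
      by_contra hc
      obtain ⟨r, hr⟩ := Multiset.exists_mem_of_ne_zero hc
      have h1 := Multiset.single_le_sum (fun x _ => Nat.zero_le x) r hr
      have := hν r hr
      simp only [Multiset.sum_zero] at hs
      omega
    subst this
    rw [if_pos rfl, X_zero]
    have h1 : ∑ β ∈ A N (d0 N + (0 : Multiset ℕ).sum), co (aD N) β * co (aD N) β =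
        ∑ β ∈ univ.image pv, co (aD N) β * co (aD N) β := by
      symm
      refine Finset.sum_subset ?_ ?_
      · intro β hβ
        obtain ⟨σ, -, rfl⟩ := Finset.mem_image.1 hβ
        rw [mem_A, sum_pv]; simp
      · intro β _ hβ
        have : co (aD N) β = 0 := by
          by_contra hc
          obtain ⟨σ, rfl⟩ := exists_pv_of_ne_zero hc
          exact hβ (Finset.mem_image_of_mem _ (mem_univ _))
        rw [this, mul_zero]
    rw [h1, Finset.sum_image (fun x _ y _ h => pv_injective h)]
    have h2 : ∀ σ : Equiv.Perm (Fin N), co (aD N) (pv σ) * co (aD N) (pv σ) = 1 := by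
      intro σ
      rw [co_aD_pv]
      rcases Int.units_eq_one_or (Equiv.Perm.sign σ) with h | h <;> simp [h]
    simp [h2, zz, Fintype.card_perm]
  | cons r μ ih =>
    intro ν hμ hν hs hN
    have hr : 0 < r := hμ r (by simp)
    rw [Multiset.sum_cons] at hs hN
    have h1 := sum_L (fun _ => 1) (X N μ) (X N ν) (d0 N + μ.sum) r (fun _ _ => rfl)
    simp only [one_mul] at h1
    rw [X_cons, Multiset.sum_cons, add_comm r, ← add_assoc, h1, R_X hr ν (by omega)]
    simp only [Pi.smul_apply, smul_eq_mul]
    by_cases hm : r ∈ ν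
    · have h2 : ∀ β, X N μ β * (((r * ν.count r : ℕ) : ℂ) * X N (ν.erase r) β) =
          ((r * ν.count r : ℕ) : ℂ) * (X N μ β * X N (ν.erase r) β) := fun β => by ring
      simp only [h2]
      have h3 : (ν.erase r).sum = μ.sum := by
        have := congrArg Multiset.sum (Multiset.cons_erase hm)
        rw [Multiset.sum_cons] at this
        omega
      rw [← Finset.mul_sum, ih (ν.erase r) (fun s hs => hμ s (by simp [hs]))
        (fun s hs => hν s (Multiset.mem_of_mem_erase hs)) h3 (by omega)]
      by_cases h4 : μ = ν.erase r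
      · have h5 : r ::ₘ μ = ν := by rw [h4, Multiset.cons_erase hm]
        rw [if_pos h4, if_pos h5, zz_cons, ← h5, Multiset.count_cons_self]
        push_cast; ring
      · rw [if_neg h4, if_neg, mul_zero]
        intro h5
        exact h4 (by rw [← h5, Multiset.erase_cons_head])
    · rw [Multiset.count_eq_zero_of_notMem hm, if_neg]
      · simp
      · intro h; exact hm (h ▸ Multiset.mem_cons_self r μ)

/-- Weighted orthogonality: a part `r` of `μ` that is not a part of `ν`, and a weight that does not
see steps of length `r`. -/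
theorem gram_weight (w : Fn N) {r : ℕ} (hr : 0 < r) (hw : ∀ β i, w (β + sg i r) = w β)
    {μ ν : Multiset ℕ} (hμ : r ∈ μ) (hν : r ∉ ν) (hN : ν.sum ≤ N) :
    ∑ β ∈ A N (d0 N + μ.sum), w β * (X N μ β * X N ν β) = 0 := by
  obtain ⟨μ, rfl⟩ := Multiset.exists_cons_of_mem hμ
  rw [X_cons, Multiset.sum_cons, add_comm r, ← add_assoc, sum_L w _ _ _ _ hw, R_X hr ν hN,
    Multiset.count_eq_zero_of_notMem hν]
  simp

end SFock
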