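import Cfsg.Agent.Lib.Sym.Count
import Cfsg.Agent.Lib.Char.Mackey
import Cfsg.Prelude.Def_BlockRank

/-!
# Frobenius's character formula

The functions `chi N S` are, up to sign, the irreducible characters of the symmetric group.
-/

namespace SFock

open Finset Cfsg CT
open scoped ComplexConjugate

variable {N : ℕ} {α : Type*} [Fintype α] [DecidableEq α]

theorem sum_fixed_eq_prod {K : Type*} [Fintype K] [DecidableEq K] (g : Equiv.Perm α) (κ : α → K)
    (hκ : Function.Surjective κ) (h : ∀ a b, κ a = κ b ↔ g.SameCycle a b) :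
    ∑ f ∈ univ.filter (fun f : α → Fin N => f ∘ g = f),
      ∏ a, (MvPolynomial.X (f a) : MvPolynomial (Fin N) ℂ) =
      ∏ k, MvPolynomial.psum (Fin N) ℂ (univ.filter fun a => κ a = k).card := by
  simp only [MvPolynomial.psum]
  rw [Finset.prod_univ_sum, Fintype.piFinset_univ]
  symm
  refine Finset.sum_bij (fun φ _ => φ ∘ κ) ?_ ?_ ?_ ?_
  · intro φ _
    simp only [mem_filter, mem_univ, true_and]
    funext a
    simp only [Function.comp]
    rw [(h (g a) a).2 (Equiv.Perm.sameCycle_apply_left.2 (Equiv.Perm.SameCycle.refl g a))]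
  · intro φ _ ψ _ hφ
    exact hκ.injective_comp_right hφ
  · intro f hf
    simp only [mem_filter, mem_univ, true_and] at hf
    have h1 : ∀ (k : ℕ) a, f ((g ^ k) a) = f a := by
      intro k
      induction k with
      | zero => simp
      | succ k ih =>
        intro a
        rw [pow_succ', Equiv.Perm.mul_apply]
        exact (congrFun hf _).trans (ih a)
    refine ⟨fun k => f (Function.surjInv hκ k), mem_univ _, ?_⟩
    funext a
    obtain ⟨k, -, hk⟩ := ((h _ _).1 (Function.surjInv_eq hκ (κ a))).exists_pow_eq'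
    simp only [Function.comp]
    conv_rhs => rw [← hk, h1]
  · intro φ _
    rw [← Finset.prod_fiberwise univ κ]
    refine Finset.prod_congr rfl fun k _ => ?_
    rw [← Finset.prod_const]
    refine Finset.prod_congr rfl fun a ha => ?_
    rw [Function.comp, (Finset.mem_filter.1 ha).2]

theorem PP_parts (g : Equiv.Perm α) : PP N g.partition.parts =
    ∑ f ∈ univ.filter (fun f : α → Fin N => f ∘ g = f),
      ∏ a, (MvPolynomial.X (f a) : MvPolynomial (Fin N) ℂ) := by
  let κ : α → g.cycleFactorsFinset ⊕ {a // g a = a} := fun a =>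
    if h : g a = a then Sum.inr ⟨a, h⟩ else Sum.inl ⟨g.cycleOf a,
      Equiv.Perm.cycleOf_mem_cycleFactorsFinset_iff.2 (Equiv.Perm.mem_support.2 h)⟩
  have hl : ∀ (c : g.cycleFactorsFinset) a, κ a = Sum.inl c ↔ a ∈ c.1.support := by
    intro c a
    simp only [κ]
    split_ifs with h
    · simp only [false_iff]
      intro ha
      exact Equiv.Perm.mem_support.1 (Equiv.Perm.mem_cycleFactorsFinset_support_le c.2 ha) h
    · rw [Sum.inl.injEq, Subtype.ext_iff, eq_comm]
      exact Equiv.Perm.eq_cycleOf_of_mem_cycleFactorsFinset_iff g c.1 c.2 a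
  have hr : ∀ (b : {a // g a = a}) a, κ a = Sum.inr b ↔ a = b.1 := by
    intro b a
    simp only [κ]
    split_ifs with h
    · rw [Sum.inr.injEq, Subtype.ext_iff]
    · simp only [false_iff]
      rintro rfl
      exact h b.2
  rw [sum_fixed_eq_prod g κ]
  · rw [Fintype.prod_sum_type, PP, Equiv.Perm.parts_partition, Multiset.map_add,
      Multiset.prod_add]
    congr 1
    · rw [Equiv.Perm.cycleType_def, Multiset.map_map, ← Finset.prod_eq_multiset_prod,
        ← Finset.prod_coe_sort]
      refine Finset.prod_congr rfl fun c _ => ?_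
      simp only [Function.comp, hl]
      congr 2
      ext a
      simp
    · simp only [hr, Finset.filter_eq', mem_univ, if_true, card_singleton, Finset.prod_const,
        Multiset.map_replicate, Multiset.prod_replicate, card_univ]
      congr 1
      rw [← Equiv.Perm.sum_cycleType, ← Equiv.Perm.card_fixedPoints]
      rfl
  · rintro (c | b)
    · obtain ⟨a, ha⟩ := (Equiv.Perm.mem_cycleFactorsFinset_iff.1 c.2).1.nonempty_support
      exact ⟨a, (hl c a).2 ha⟩
    · exact ⟨b.1, (hr b _).2 rfl⟩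
  · intro a b
    by_cases hb : g b = b
    · rw [show κ b = Sum.inr ⟨b, hb⟩ from dif_pos hb, hr]
      exact ⟨fun h => h ▸ Equiv.Perm.SameCycle.refl g _, fun h => h.eq_of_right hb⟩
    · rw [show κ b = Sum.inl ⟨_, _⟩ from dif_neg hb, hl, Equiv.Perm.mem_support_cycleOf_iff' hb]
      exact Equiv.Perm.sameCycle_comm

/-- Colourings with a given content. -/
def Col (α : Type*) [Fintype α] (γ : Fin N →₀ ℕ) : Type _ :=
  {f : α → Fin N // ∑ a, Finsupp.single (f a) 1 = γ}

instance finite_col (γ : Fin N →₀ ℕ) : Finite (Col α γ) := by unfold Col; infer_instance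

instance mulAction_col (γ : Fin N →₀ ℕ) : MulAction (Equiv.Perm α) (Col α γ) where
  smul g f := ⟨f.1 ∘ g.symm,
    (Equiv.sum_comp g.symm fun a => Finsupp.single (f.1 a) 1).trans f.2⟩
  one_smul _ := rfl
  mul_smul _ _ _ := rfl

theorem isCharacter_co_PP (γ : Fin N → ℕ) :
    IsCharacter (Equiv.Perm α) fun g => co (PP N g.partition.parts) γ := by
  classical
  convert isCharacter_permChar (G := Equiv.Perm α) (Col α (Finsupp.equivFunOnFinite.symm γ))
    using 2 with g
  rw [PP_parts, co_sum, permChar_apply']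
  have h1 : ∀ f : α → Fin N, co (∏ a, (MvPolynomial.X (f a) : MvPolynomial (Fin N) ℂ)) γ =
      if ∑ a, Finsupp.single (f a) 1 = Finsupp.equivFunOnFinite.symm γ then 1 else 0 := by
    intro f
    simp only [MvPolynomial.X]
    rw [← MvPolynomial.monomial_sum_one, co, MvPolynomial.coeff_monomial]
  simp only [h1]
  rw [Finset.sum_boole, Finset.filter_filter, ← Fintype.card_subtype, ← Nat.card_eq_fintype_card]
  congr 1
  refine Nat.card_congr ⟨fun f => ⟨⟨f.1, f.2.2⟩, Subtype.ext ?_⟩, fun f => ⟨f.1.1, ?_, f.1.2⟩,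
    fun _ => rfl, fun _ => rfl⟩
  · funext a
    have := congrFun f.2.1 (g.symm a)
    simp only [Function.comp, Equiv.apply_symm_apply] at this
    exact this.symm
  · funext a
    have := congrFun (congrArg Subtype.val f.2) (g a)
    change f.1.1 (g.symm (g a)) = _ at this
    rw [Equiv.symm_apply_apply] at this
    exact this.symm

variable (α) in
/-- The character attached to a configuration. -/
noncomputable def chi (N : ℕ) (S : Finset ℕ) : Equiv.Perm α → ℂ :=
  fun g => Y N g.partition.parts S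

theorem isGen_chi (S : Finset ℕ) : IsGeneralizedCharacter (Equiv.Perm α) (chi α N S) := by
  have : chi α N S = ∑ σ : Equiv.Perm (Fin N),
      (((if ∀ i, pv σ i ≤ en N S i then (Equiv.Perm.sign σ : ℤ) else 0 : ℤ) : ℂ)) •
        fun g : Equiv.Perm α => co (PP N g.partition.parts) (en N S - pv σ) := by
    funext g
    rw [chi, Y, X, mul_comm, aD, Finset.sum_mul, co_sum, Finset.sum_apply]
    refine Finset.sum_congr rfl fun σ _ => ?_
    rw [co_monomial_mul]
    split_ifs <;> simp
  rw [this]
  exact isGen_sum _ _ fun σ _ => (isCharacter_co_PP _).isGen.zsmul _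

theorem parts_pos (g : Equiv.Perm α) : ∀ r ∈ g.partition.parts, 0 < r :=
  fun _ hr => g.partition.parts_pos hr

theorem zz_parts (g : Equiv.Perm α) :
    zz g.partition.parts = Nat.card (Subgroup.centralizer ({g} : Set (Equiv.Perm α))) := by
  rw [Equiv.Perm.nat_card_centralizer, Equiv.Perm.parts_partition, zz_add_replicate
    (fun h => absurd (Equiv.Perm.two_le_of_mem_cycleType h) (by norm_num)),
    Equiv.Perm.sum_cycleType, zz, mul_assoc]

theorem conj_irr (φ : IrrCharacter (Equiv.Perm α)) (g : Equiv.Perm α) : conj (φ.1 g) = φ.1 g := by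
  rw [← (irr_isCharacter φ).apply_inv]
  exact (irr_isClassFunction φ).of_isConj
    (Equiv.Perm.isConj_iff_cycleType_eq.2 (Equiv.Perm.cycleType_inv g))

variable (α) in
/-- The configurations that label the irreducible characters. -/
abbrev Lab (N : ℕ) : Finset (Finset ℕ) := SS N (d0 N + Fintype.card α)

theorem sum_chi_mul (hN : Fintype.card α ≤ N) (g h : Equiv.Perm α) :
    ∑ S ∈ Lab α N, chi α N S g * chi α N S h =
      ∑ φ : IrrCharacter (Equiv.Perm α), φ.1 g * φ.1 h := by
  have h1 := sum_Y_mul (N := N) (parts_pos g) (parts_pos h)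
    (by rw [g.partition.parts_sum, h.partition.parts_sum]) (by rw [g.partition.parts_sum]; exact hN)
  rw [g.partition.parts_sum] at h1
  have h2 := sum_irr_mul_conj g h
  simp only [conj_irr] at h2
  rw [h2]
  refine h1.trans ?_
  rw [zz_parts]
  congr 1
  rw [Equiv.Perm.partition_eq_of_isConj, Nat.Partition.ext_iff]

theorem irr_eq_sum (hN : Fintype.card α ≤ N) (φ : IrrCharacter (Equiv.Perm α)) :
    φ.1 = ∑ S ∈ Lab α N, ip (chi α N S) φ.1 • chi α N S := by
  funext h
  have h1 : ∑ S ∈ Lab α N, chi α N S h • chi α N S =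
      ∑ ψ : IrrCharacter (Equiv.Perm α), ψ.1 h • ψ.1 := by
    funext g
    simp only [Finset.sum_apply, Pi.smul_apply, smul_eq_mul]
    exact sum_chi_mul hN h g
  have h2 := congrArg (fun θ => ip θ φ.1) h1
  simp only [ip_sum_irr_left] at h2
  rw [← h2, ip_sum_left, Finset.sum_apply]
  refine Finset.sum_congr rfl fun S _ => ?_
  rw [ip_smul_left, Pi.smul_apply, smul_eq_mul, mul_comm]

theorem sum_ip_mul (hN : Fintype.card α ≤ N) (φ ψ : IrrCharacter (Equiv.Perm α)) :
    ∑ S ∈ Lab α N, ip (chi α N S) φ.1 * ip (chi α N S) ψ.1 = ip φ.1 ψ.1 := by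
  conv_rhs => rw [irr_eq_sum hN φ, ip_sum_left]
  simp only [ip_smul_left]

theorem exists_lab (hN : Fintype.card α ≤ N) (φ : IrrCharacter (Equiv.Perm α)) :
    ∃ S ∈ Lab α N, (ip (chi α N S) φ.1 = 1 ∨ ip (chi α N S) φ.1 = -1) ∧
      ∀ T ∈ Lab α N, T ≠ S → ip (chi α N T) φ.1 = 0 := by
  choose a ha using fun S => (isGen_chi (α := α) (N := N) S).exists_int_ip (irr_isCharacter φ).isGen
  have h1 := sum_ip_mul hN φ φ
  rw [ip_irr_self] at h1
  simp only [ha] at h1 ⊢
  have h2 : ∑ S ∈ Lab α N, a S * a S = 1 := by exact_mod_cast h1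
  obtain ⟨S, hS, h3⟩ := Finset.exists_ne_zero_of_sum_ne_zero (h2.trans_ne one_ne_zero)
  rw [← Finset.add_sum_erase _ _ hS] at h2
  have h4 : 0 ≤ ∑ T ∈ (Lab α N).erase S, a T * a T :=
    Finset.sum_nonneg fun T _ => mul_self_nonneg _
  have h5 : 0 < a S * a S := lt_of_le_of_ne (mul_self_nonneg _) h3.symm
  refine ⟨S, hS, ?_, fun T hT hne => ?_⟩
  · rcases mul_self_eq_one_iff.1 (show a S * a S = 1 by omega) with h | h <;> simp [h]
  · have h6 : ∑ T ∈ (Lab α N).erase S, a T * a T = 0 := by omega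
    have := (Finset.sum_eq_zero_iff_of_nonneg fun T _ => mul_self_nonneg _).1 h6 T
      (Finset.mem_erase.2 ⟨hne, hT⟩)
    simp [mul_self_eq_zero.1 this]

/-- The configuration that labels an irreducible character. -/
noncomputable def lab (hN : Fintype.card α ≤ N) (φ : IrrCharacter (Equiv.Perm α)) : Finset ℕ :=
  (exists_lab hN φ).choose

section
variable (hN : Fintype.card α ≤ N) (φ : IrrCharacter (Equiv.Perm α))

theorem lab_mem : lab hN φ ∈ Lab α N := (exists_lab hN φ).choose_spec.1

theorem ip_lab : ip (chi α N (lab hN φ)) φ.1 = 1 ∨ ip (chi α N (lab hN φ)) φ.1 = -1 :=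
  (exists_lab hN φ).choose_spec.2.1

theorem ip_eq_zero_of_ne_lab {T : Finset ℕ} (hT : T ∈ Lab α N) (h : T ≠ lab hN φ) :
    ip (chi α N T) φ.1 = 0 := (exists_lab hN φ).choose_spec.2.2 T hT h

theorem irr_eq_smul : φ.1 = ip (chi α N (lab hN φ)) φ.1 • chi α N (lab hN φ) := by
  conv_lhs => rw [irr_eq_sum hN φ]
  rw [Finset.sum_eq_single (lab hN φ)]
  · intro T hT h
    rw [ip_eq_zero_of_ne_lab hN φ hT h, zero_smul]
  · exact fun h => absurd (lab_mem hN φ) h

theorem exists_irr_eq : ∃ ε : ℂ, ε * ε = 1 ∧ φ.1 = ε • chi α N (lab hN φ) :=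
  ⟨_, by rcases ip_lab hN φ with h | h <;> simp [h], irr_eq_smul hN φ⟩

theorem lab_injective : Function.Injective (lab hN) := by
  intro φ ψ h
  by_contra hne
  obtain ⟨ε, h1, h2⟩ := exists_irr_eq hN φ
  have h3 := ip_irr_ne hne
  rw [h2, ip_smul_left, h] at h3
  have hε : ε ≠ 0 := by rintro rfl; simp at h1
  rcases ip_lab hN ψ with h4 | h4 <;> simp [h4, hε] at h3

end

theorem exists_part_of_dvd {p : ℕ} (hp : p.Prime) {g : Equiv.Perm α} (h : p ∣ orderOf g) :
    ∃ r ∈ g.partition.parts, p ∣ r := by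
  rw [← Equiv.Perm.lcm_cycleType] at h
  have : ∀ m : Multiset ℕ, p ∣ m.lcm → ∃ r ∈ m, p ∣ r := by
    intro m
    induction m using Multiset.induction_on with
    | empty => intro h; exact absurd (Nat.dvd_one.1 h) hp.ne_one
    | cons a m ih =>
      intro h
      rw [Multiset.lcm_cons] at h
      rcases (Nat.Prime.dvd_mul hp).1 (h.trans (lcm_dvd_mul a m.lcm)) with h | h
      · exact ⟨a, by simp, h⟩
      · obtain ⟨r, hr, h⟩ := ih h
        exact ⟨r, by simp [hr], h⟩
  obtain ⟨r, hr, h⟩ := this _ h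
  exact ⟨r, by simp [Equiv.Perm.parts_partition, hr], h⟩

theorem notMem_parts {p : ℕ} (hp : p.Prime) {g : Equiv.Perm α} (h : ¬ p ∣ orderOf g) {r : ℕ}
    (hr : p ∣ r) : r ∉ g.partition.parts := by
  rw [Equiv.Perm.parts_partition, Multiset.mem_add]
  rintro (h1 | h1)
  · exact h (hr.trans (Equiv.Perm.dvd_of_mem_cycleType h1))
  · rw [Multiset.eq_of_mem_replicate h1] at hr
    exact hp.ne_one (Nat.dvd_one.1 hr)

theorem sum_chi_mul_res {p : ℕ} (hp : p.Prime) (hN : Fintype.card α ≤ N) (c : Multiset ℕ)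
    {g h : Equiv.Perm α} (hg : p ∣ orderOf g) (hh : ¬ p ∣ orderOf h) :
    ∑ S ∈ (Lab α N).filter (fun S => res p S = c), chi α N S g * chi α N S h = 0 := by
  obtain ⟨r, hr, h1⟩ := exists_part_of_dvd hp hg
  have := sum_Y_mul_res (N := N) p c (parts_pos g r hr) h1 hr (notMem_parts hp hh h1)
    (by rw [h.partition.parts_sum]; exact hN)
  rwa [g.partition.parts_sum] at this

theorem ip_pRegularPart_eq_zero {p : ℕ} (hp : p.Prime) (hN : Fintype.card α ≤ N)
    {φ ψ : IrrCharacter (Equiv.Perm α)} (h : res p (lab hN φ) ≠ res p (lab hN ψ)) :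
    ip (pRegularPart p φ.1) ψ.1 = 0 := by
  classical
  set C := (Lab α N).filter fun S => res p S = res p (lab hN φ) with hC
  have h1 : pRegularPart p φ.1 = ∑ S ∈ C, ip (pRegularPart p (chi α N S)) φ.1 • chi α N S := by
    funext h
    have h2 : ∑ S ∈ C, chi α N S h • pRegularPart p (chi α N S) =
        (if IsPRegular p h then 1 else 0 : ℂ) • ∑ S ∈ C, chi α N S h • chi α N S := by
      funext g
      simp only [Finset.sum_apply, Pi.smul_apply, smul_eq_mul, pRegularPart]
      by_cases hg : IsPRegular p g <;> by_cases hh : IsPRegular p h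
      · simp [hg, hh]
      · simp only [hg, hh, if_true, if_false, zero_mul]
        exact sum_chi_mul_res hp hN _ (not_not.1 hh) hg
      · simp only [hg, hh, if_true, if_false, mul_zero, sum_const_zero, one_mul]
        rw [← sum_chi_mul_res hp hN (res p (lab hN φ)) (not_not.1 hg) hh]
        exact Finset.sum_congr rfl fun S _ => mul_comm _ _
      · simp [hg, hh]
    have h3 := congrArg (fun θ => ip θ φ.1) h2
    simp only [ip_sum_left, ip_smul_left] at h3
    have h4 : ∑ S ∈ C, chi α N S h * ip (chi α N S) φ.1 = φ.1 h := by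
      rw [Finset.sum_eq_single (lab hN φ)]
      · conv_rhs => rw [irr_eq_smul hN φ, Pi.smul_apply, smul_eq_mul, mul_comm]
      · intro T hT h
        rw [ip_eq_zero_of_ne_lab hN φ (Finset.mem_filter.1 hT).1 h, mul_zero]
      · exact fun h => absurd (by simp [hC, lab_mem hN φ]) h
    rw [h4] at h3
    simp only [Finset.sum_apply, Pi.smul_apply, smul_eq_mul]
    rw [Finset.sum_congr rfl fun S _ => mul_comm _ (chi α N S h), h3, pRegularPart]
    split_ifs <;> simp
  rw [h1, ip_sum_left]
  refine Finset.sum_eq_zero fun S hS => ?_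
  obtain ⟨h2, h3⟩ := Finset.mem_filter.1 hS
  rw [ip_smul_left, ip_eq_zero_of_ne_lab hN ψ h2 (fun h4 => h (by rw [← h3, h4])), mul_zero]

theorem sgn_parts (g : Equiv.Perm α) :
    sgn g.partition.parts = ((Equiv.Perm.sign g : ℤ) : ℂ) := by
  rw [Equiv.Perm.sign_of_cycleType', Equiv.Perm.parts_partition, sgn, Multiset.map_add,
    Multiset.prod_add]
  simp only [Multiset.map_replicate, Multiset.prod_replicate]
  induction g.cycleType using Multiset.induction_on with
  | empty => simp
  | cons a m ih =>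
    simp only [Multiset.map_cons, Multiset.prod_cons, Units.val_mul, Int.cast_mul, mul_assoc, ih]
    simp [pow_succ]

theorem chi_cj (hN : Fintype.card α ≤ N) {S : Finset ℕ} (hS : S ∈ Lab α N) (g : Equiv.Perm α) :
    chi α N (cj (2 * N) S) g = ((Equiv.Perm.sign g : ℤ) : ℂ) * chi α N S g := by
  rw [chi, Y_cj _ (parts_pos g) (subset_range_of_mem_SS hN hS) (mem_SS.1 hS).1, sgn_parts, chi]

end SFock
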