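import Cfsg.Agent.Lib.Sym.Fock

/-!
# Bead configurations

Alternating functions are determined by their values at increasing tuples, that is at finite sets
of natural numbers. Orthogonality, the Murnaghan–Nakayama rule and the sign twist in these terms.
-/

namespace SFock

open Finset

variable {N : ℕ}

/-- The increasing enumeration of a set with `N` elements. -/
noncomputable def en (N : ℕ) (S : Finset ℕ) : Fin N → ℕ :=
  if h : S.card = N then S.orderEmbOfFin h else fun _ => 0

theorem en_strictMono {S : Finset ℕ} (h : S.card = N) : StrictMono (en N S) := by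
  rw [en, dif_pos h]; exact (S.orderEmbOfFin h).strictMono

theorem image_en {S : Finset ℕ} (h : S.card = N) : univ.image (en N S) = S := by
  rw [en, dif_pos h]; exact Finset.image_orderEmbOfFin_univ S h

theorem en_mem {S : Finset ℕ} (h : S.card = N) (i : Fin N) : en N S i ∈ S := by
  have : en N S i ∈ univ.image (en N S) := Finset.mem_image_of_mem _ (mem_univ i)
  rwa [image_en h] at this

theorem card_image_inj {β : Fin N → ℕ} (h : Function.Injective β) : (univ.image β).card = N := by
  rw [Finset.card_image_of_injective _ h, Finset.card_univ, Fintype.card_fin]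

theorem sum_en {M : Type*} [AddCommMonoid M] {S : Finset ℕ} (h : S.card = N) (f : ℕ → M) :
    ∑ i, f (en N S i) = ∑ x ∈ S, f x := by
  conv_rhs => rw [← image_en h]
  rw [Finset.sum_image (fun x _ y _ hxy => (en_strictMono h).injective hxy)]

theorem map_en {S : Finset ℕ} (h : S.card = N) : univ.val.map (en N S) = S.val := by
  conv_rhs => rw [← image_en h]
  rw [Finset.image_val_of_injOn (en_strictMono h).injective.injOn]

theorem exists_perm {β : Fin N → ℕ} (h : Function.Injective β) :
    ∃ σ : Equiv.Perm (Fin N), β = en N (univ.image β) ∘ σ := by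
  have hc := card_image_inj h
  have : ∀ i, ∃ j, en N (univ.image β) j = β i := by
    intro i
    have : β i ∈ univ.image (en N (univ.image β)) := by
      rw [image_en hc]; exact Finset.mem_image_of_mem _ (mem_univ i)
    obtain ⟨j, -, hj⟩ := Finset.mem_image.1 this
    exact ⟨j, hj⟩
  choose f hf using this
  have hinj : Function.Injective f := by
    intro i j hij
    apply h
    rw [← hf i, ← hf j, hij]
  refine ⟨Equiv.ofBijective f (Finite.injective_iff_bijective.1 hinj), ?_⟩
  funext i
  simp [hf]

/-- The sign of the permutation that sorts an injective tuple. -/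
noncomputable def eps (β : Fin N → ℕ) : ℂ := ∏ j, ∏ i ∈ Iio j, if β i < β j then 1 else -1

theorem Alt.eq_eps {F : Fn N} (hF : Alt F) {β : Fin N → ℕ} (h : Function.Injective β) :
    F β = eps β * F (en N (univ.image β)) := by
  obtain ⟨σ, hσ⟩ := exists_perm h
  have hm := en_strictMono (card_image_inj h)
  generalize en N (univ.image β) = γ at hσ hm
  subst hσ
  rw [hF, eps, Equiv.Perm.sign_eq_prod_prod_Iio]
  congr 1
  push_cast
  refine Finset.prod_congr rfl fun j _ => Finset.prod_congr rfl fun i _ => ?_
  simp only [Function.comp, hm.lt_iff_lt]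
  split_ifs <;> simp

/-- Sets of `N` beads with sum `d`. -/
def SS (N d : ℕ) : Finset (Finset ℕ) :=
  (powersetCard N (range (d + 1))).filter fun S => ∑ x ∈ S, x = d

theorem mem_SS {d : ℕ} {S : Finset ℕ} : S ∈ SS N d ↔ S.card = N ∧ ∑ x ∈ S, x = d := by
  simp only [SS, mem_filter, mem_powersetCard]
  constructor
  · exact fun h => ⟨h.1.2, h.2⟩
  · refine fun h => ⟨⟨fun x hx => ?_, h.1⟩, h.2⟩
    have := Finset.single_le_sum (f := fun x => x) (fun x _ => Nat.zero_le x) hx
    simp only [mem_range]
    omega

theorem sum_A_eq (f : Fn N) (d : ℕ) (h0 : ∀ β, ¬ Function.Injective β → f β = 0)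
    (hf : ∀ (τ : Equiv.Perm (Fin N)) β, f (β ∘ τ) = f β) :
    ∑ β ∈ A N d, f β = (N.factorial : ℂ) * ∑ S ∈ SS N d, f (en N S) := by
  classical
  have h1 : ∑ β ∈ A N d, f β = ∑ β ∈ (A N d).filter Function.Injective, f β := by
    rw [Finset.sum_filter]
    refine Finset.sum_congr rfl fun β _ => ?_
    split_ifs with h
    · rfl
    · exact h0 β h
  have h2 : ∑ x ∈ SS N d ×ˢ (univ : Finset (Equiv.Perm (Fin N))), f (en N x.1 ∘ x.2) =
      ∑ β ∈ (A N d).filter Function.Injective, f β := by
    refine Finset.sum_bij (fun x _ => en N x.1 ∘ x.2) ?_ ?_ ?_ (fun _ _ => rfl)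
    · rintro ⟨S, σ⟩ hx
      have hS := mem_SS.1 (Finset.mem_product.1 hx).1
      simp only [mem_filter, mem_A]
      refine ⟨?_, (en_strictMono hS.1).injective.comp σ.injective⟩
      rw [← hS.2, ← sum_en hS.1 (fun x => x)]
      exact Equiv.sum_comp σ (en N S)
    · rintro ⟨S, σ⟩ hx ⟨T, τ⟩ hy h
      have hS := mem_SS.1 (Finset.mem_product.1 hx).1
      have hT := mem_SS.1 (Finset.mem_product.1 hy).1
      simp only at h hS hT
      have hST : S = T := by
        rw [← image_en hS.1, ← image_en hT.1]
        have := congrArg (fun g => univ.image g) h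
        simp only [← Finset.image_image, Finset.image_univ_equiv] at this
        exact this
      subst hST
      have : σ = τ := by
        ext i
        exact congrArg _ ((en_strictMono hS.1).injective (congrFun h i))
      rw [this]
    · intro β hβ
      simp only [mem_filter, mem_A] at hβ
      obtain ⟨σ, hσ⟩ := exists_perm hβ.2
      refine ⟨(univ.image β, σ), ?_, hσ.symm⟩
      simp only [mem_product, mem_univ, and_true, mem_SS]
      refine ⟨card_image_inj hβ.2, ?_⟩
      rw [Finset.sum_image (fun x _ y _ hxy => hβ.2 hxy), hβ.1]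
  rw [h1, ← h2, Finset.sum_product, Finset.mul_sum]
  refine Finset.sum_congr rfl fun S _ => ?_
  simp [hf, Fintype.card_perm]

/-- Character values indexed by bead configurations. -/
noncomputable def Y (N : ℕ) (μ : Multiset ℕ) (S : Finset ℕ) : ℂ := X N μ (en N S)

theorem sign_mul_self (τ : Equiv.Perm (Fin N)) :
    ((Equiv.Perm.sign τ : ℤ) : ℂ) * ((Equiv.Perm.sign τ : ℤ) : ℂ) = 1 := by
  rcases Int.units_eq_one_or (Equiv.Perm.sign τ) with h | h <;> simp [h]

theorem sum_Y_mul {μ ν : Multiset ℕ} (hμ : ∀ r ∈ μ, 0 < r) (hν : ∀ r ∈ ν, 0 < r)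
    (hs : ν.sum = μ.sum) (hN : μ.sum ≤ N) :
    ∑ S ∈ SS N (d0 N + μ.sum), Y N μ S * Y N ν S = if μ = ν then (zz μ : ℂ) else 0 := by
  have h := gram μ ν hμ hν hs hN
  rw [sum_A_eq (fun β => X N μ β * X N ν β)] at h
  · have hN0 : (N.factorial : ℂ) ≠ 0 := by exact_mod_cast N.factorial_ne_zero
    apply mul_left_cancel₀ hN0
    simp only [Y]
    rw [h]
    split_ifs <;> simp
  · intro β hβ
    simp [(alt_X μ).eq_zero hβ]
  · intro τ β
    simp only [alt_X μ τ, alt_X ν τ]
    linear_combination (X N μ β * X N ν β) * sign_mul_self τ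

/-- The residues of a configuration. -/
def res (p : ℕ) (S : Finset ℕ) : Multiset ℕ := S.val.map (· % p)

theorem sum_Y_mul_res (p : ℕ) (c : Multiset ℕ) {r : ℕ} (hr : 0 < r) (hp : p ∣ r)
    {μ ν : Multiset ℕ} (hμ : r ∈ μ) (hν : r ∉ ν) (hN : ν.sum ≤ N) :
    ∑ S ∈ (SS N (d0 N + μ.sum)).filter (fun S => res p S = c), Y N μ S * Y N ν S = 0 := by
  classical
  have h := gram_weight (N := N)
    (fun β => if univ.val.map (fun i => β i % p) = c then 1 else 0) hr (by
      intro β i
      have : (fun k => (β + sg i r) k % p) = fun k => β k % p := by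
        funext k
        simp only [Pi.add_apply, Pi.single_apply]
        split_ifs
        · obtain ⟨t, rfl⟩ := hp
          simp
        · simp
      simp only [this]) hμ hν hN
  rw [sum_A_eq (fun β => (if univ.val.map (fun i => β i % p) = c then 1 else 0) *
    (X N μ β * X N ν β))] at h
  · have hN0 : (N.factorial : ℂ) ≠ 0 := by exact_mod_cast N.factorial_ne_zero
    rw [mul_eq_zero, or_iff_right hN0] at h
    rw [← h, Finset.sum_filter]
    refine Finset.sum_congr rfl fun S hS => ?_
    have : univ.val.map (fun i => en N S i % p) = res p S := by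
      rw [res, ← map_en (mem_SS.1 hS).1, Multiset.map_map]; rfl
    rw [this]
    split_ifs <;> simp [Y]
  · intro β hβ
    simp [(alt_X μ).eq_zero hβ]
  · intro τ β
    have : univ.val.map (fun i => (β ∘ τ) i % p) = univ.val.map (fun i => β i % p) := by
      conv_rhs => rw [← Finset.map_univ_equiv τ]
      rw [Finset.map_val, Multiset.map_map]; rfl
    simp only [alt_X μ τ, alt_X ν τ, this]
    linear_combination (if univ.val.map (fun i => β i % p) = c then (1 : ℂ) else 0) *
      (X N μ β * X N ν β) * sign_mul_self τ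

/-- The Murnaghan–Nakayama rule. -/
theorem Y_cons {r : ℕ} (hr : 0 < r) (μ : Multiset ℕ) {S : Finset ℕ} (hS : S.card = N) :
    Y N (r ::ₘ μ) S = ∑ x ∈ S with r ≤ x ∧ x - r ∉ S,
      (-1) ^ (S.filter fun y => x - r < y ∧ y < x).card * Y N μ (insert (x - r) (S.erase x)) := by
  rw [Y, X_cons, L, Finset.sum_filter, ← sum_en hS]
  refine Finset.sum_congr rfl fun i _ => ?_
  have hm := en_strictMono hS
  have him := image_en hS
  generalize en N S = β at hm him
  by_cases h1 : r ≤ β i
  swap
  · rw [if_neg h1, if_neg (fun h => h1 h.1)]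
  rw [if_pos h1]
  have hγ : ∀ k, (β - sg i r) k = if k = i then β i - r else β k := by
    intro k
    simp only [Pi.sub_apply, Pi.single_apply]
    split_ifs with h
    · rw [h]
    · simp
  by_cases h2 : β i - r ∈ S
  · rw [if_neg (fun h => h.2 h2)]
    refine (alt_X μ).eq_zero fun hinj => ?_
    rw [← him] at h2
    obtain ⟨j, -, hj⟩ := Finset.mem_image.1 h2
    have hij : j ≠ i := by rintro rfl; omega
    exact hij (hinj (by rw [hγ, hγ, if_neg hij, if_pos rfl, hj]))
  rw [if_pos ⟨h1, h2⟩]
  have hne : ∀ k, β k ≠ β i - r := by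
    intro k hk
    exact h2 (by rw [← hk, ← him]; exact Finset.mem_image_of_mem _ (mem_univ k))
  have hinj : Function.Injective (β - sg i r) := by
    intro j k hjk
    rw [hγ, hγ] at hjk
    split_ifs at hjk with hj hk hk
    · rw [hj, hk]
    · exact absurd hjk.symm (hne k)
    · exact absurd hjk (hne j)
    · exact hm.injective hjk
  have himg : univ.image (β - sg i r) = insert (β i - r) (S.erase (β i)) := by
    ext y
    simp only [mem_image, mem_univ, true_and, mem_insert, mem_erase, hγ, ← him]
    constructor
    · rintro ⟨k, hk⟩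
      split_ifs at hk with h
      · exact Or.inl hk.symm
      · exact Or.inr ⟨fun h' => h (hm.injective (hk.trans h')), k, hk⟩
    · rintro (rfl | ⟨h, k, rfl⟩)
      · exact ⟨i, by simp⟩
      · exact ⟨k, by rw [if_neg (fun h' => h (by rw [h']))]⟩
  rw [(alt_X μ).eq_eps hinj, himg, Y]
  congr 1
  rw [eps, Finset.prod_eq_single i]
  · have h3 : (S.filter fun y => β i - r < y ∧ y < β i) =
        ((Iio i).filter fun k => ¬ (β - sg i r) k < (β - sg i r) i).image β := by
      ext y
      simp only [mem_filter, mem_image, mem_univ, true_and, mem_Iio, ← him, hγ, if_true]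
      constructor
      · rintro ⟨⟨k, rfl⟩, h4, h5⟩
        have hk : k < i := hm.lt_iff_lt.1 h5
        exact ⟨k, ⟨hk, by rw [if_neg hk.ne]; omega⟩, rfl⟩
      · rintro ⟨k, ⟨hk, h4⟩, rfl⟩
        rw [if_neg hk.ne] at h4
        have := hne k
        exact ⟨⟨k, rfl⟩, by omega, hm hk⟩
    rw [h3, Finset.card_image_of_injective _ hm.injective, Finset.prod_ite]
    simp
  · intro j _ hji
    refine Finset.prod_eq_one fun k hk => ?_
    rw [if_pos]
    have hkj : β k < β j := hm (Finset.mem_Iio.1 hk)
    rw [hγ, hγ, if_neg hji]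
    split_ifs with h
    · subst h; omega
    · exact hkj
  · simp


theorem en_range : en N (range N) = pv 1 := by
  rw [en, dif_pos (Finset.card_range N)]
  symm
  refine Finset.orderEmbOfFin_unique _ (fun i => by simp [pv]) ?_
  intro i j h
  exact h

theorem Y_zero {S : Finset ℕ} (hS : S.card = N) : Y N 0 S = if S = range N then 1 else 0 := by
  rw [Y, X_zero]
  split_ifs with h
  · rw [h, en_range, co_aD_pv]; simp
  · by_contra hc
    obtain ⟨σ, hσ⟩ := exists_pv_of_ne_zero hc
    apply h
    refine Finset.eq_of_subset_of_card_le ?_ (by simp [hS])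
    intro x hx
    rw [← image_en hS, ← hσ] at hx
    obtain ⟨i, -, rfl⟩ := Finset.mem_image.1 hx
    simp [pv]

/-- The reversed complement inside `range M`: the configuration of the conjugate partition. -/
def cj (M : ℕ) (S : Finset ℕ) : Finset ℕ := (range M).filter fun z => M - 1 - z ∉ S

theorem mem_cj {M z : ℕ} {S : Finset ℕ} : z ∈ cj M S ↔ z < M ∧ M - 1 - z ∉ S := by simp [cj]

theorem cj_subset (M : ℕ) (S : Finset ℕ) : cj M S ⊆ range M := Finset.filter_subset _ _

theorem cj_cj {M : ℕ} {S : Finset ℕ} (h : S ⊆ range M) : cj M (cj M S) = S := by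
  ext z
  simp only [mem_cj, not_and, not_not]
  constructor
  · rintro ⟨h1, h2⟩
    have := h2 (by omega)
    rwa [show M - 1 - (M - 1 - z) = z by omega] at this
  · intro hz
    have : z < M := by simpa using h hz
    exact ⟨this, fun _ => by rwa [show M - 1 - (M - 1 - z) = z by omega]⟩

theorem sum_cj {A : Type*} [AddCommMonoid A] (M : ℕ) (S : Finset ℕ) (f : ℕ → A) :
    ∑ z ∈ cj M S, f z = ∑ y ∈ range M \ S, f (M - 1 - y) := by
  refine Finset.sum_nbij' (fun z => M - 1 - z) (fun z => M - 1 - z) ?_ ?_ ?_ ?_ ?_
  · intro z hz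
    rw [mem_cj] at hz
    simp only [mem_sdiff, mem_range]
    exact ⟨by omega, hz.2⟩
  · intro y hy
    simp only [mem_sdiff, mem_range] at hy
    rw [mem_cj, show M - 1 - (M - 1 - y) = y by omega]
    exact ⟨by omega, hy.2⟩
  · intro z hz
    rw [mem_cj] at hz
    omega
  · intro y hy
    simp only [mem_sdiff, mem_range] at hy
    omega
  · intro z hz
    rw [mem_cj] at hz
    rw [show M - 1 - (M - 1 - z) = z by omega]

theorem card_cj {M : ℕ} {S : Finset ℕ} (h : S ⊆ range M) : (cj M S).card + S.card = M := by
  have := sum_cj M S (fun _ => 1)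
  simp only [sum_const, smul_eq_mul, mul_one] at this
  rw [this, Finset.card_sdiff_add_card_eq_card h, card_range]

theorem card_cj_two {S : Finset ℕ} (h : S ⊆ range (2 * N)) (hS : S.card = N) :
    (cj (2 * N) S).card = N := by
  have := card_cj h
  omega

theorem sum_cj_two {S : Finset ℕ} (h : S ⊆ range (2 * N)) (hS : S.card = N) :
    ∑ z ∈ cj (2 * N) S, z = ∑ x ∈ S, x := by
  rw [sum_cj (2 * N) S (fun z => z)]
  have h1 := Finset.sum_sdiff (f := fun y => 2 * N - 1 - y) h
  have h2 := Finset.sum_range_reflect (fun y => y) (2 * N)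
  have h3 : ∑ y ∈ S, (2 * N - 1 - y) + ∑ y ∈ S, y = N * (2 * N - 1) := by
    rw [← Finset.sum_add_distrib, Finset.sum_congr rfl (g := fun _ => 2 * N - 1)]
    · simp [hS]
    · intro y hy
      have : y < 2 * N := by simpa using h hy
      omega
  have h4 := Finset.sum_range_id_mul_two (2 * N)
  have h5 : 2 * N * (2 * N - 1) = N * (2 * N - 1) * 2 := by ring
  omega

/-- The sign of a permutation with the given cycle lengths. -/
noncomputable def sgn (μ : Multiset ℕ) : ℂ := (μ.map fun r => (-1 : ℂ) ^ (r + 1)).prod

/-- The sign twist. -/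
theorem Y_cj (μ : Multiset ℕ) (hμ : ∀ r ∈ μ, 0 < r) : ∀ {S : Finset ℕ}, S ⊆ range (2 * N) →
    S.card = N → Y N μ (cj (2 * N) S) = sgn μ * Y N μ S := by
  induction μ using Multiset.induction_on with
  | empty =>
    intro S h hS
    have h0 : cj (2 * N) (range N) = range N := by
      ext z
      simp only [mem_cj, mem_range]
      omega
    rw [Y_zero hS, Y_zero (card_cj_two h hS)]
    have : cj (2 * N) S = range N ↔ S = range N := by
      constructor
      · intro h1; rw [← cj_cj h, h1, h0]
      · intro h1; rw [h1, h0]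
    simp [sgn, this]
  | cons r μ ih =>
    intro S h hS
    have hr : 0 < r := hμ r (by simp)
    have hlt : ∀ x ∈ S, x < 2 * N := fun x hx => by simpa using h hx
    rw [Y_cons hr μ hS, Y_cons hr μ (card_cj_two h hS), Finset.mul_sum]
    symm
    refine Finset.sum_nbij' (fun x => 2 * N - 1 + r - x) (fun x => 2 * N - 1 + r - x) ?_ ?_ ?_ ?_ ?_
    · intro x hx
      simp only [mem_filter] at hx
      have := hlt x hx.1
      simp only [mem_filter, mem_cj, not_and, not_not]
      refine ⟨⟨by omega, ?_⟩, by omega, fun _ => ?_⟩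
      · rw [show 2 * N - 1 - (2 * N - 1 + r - x) = x - r by omega]; exact hx.2.2
      · rw [show 2 * N - 1 - (2 * N - 1 + r - x - r) = x by omega]; exact hx.1
    · intro z hz
      simp only [mem_filter, mem_cj, not_and, not_not] at hz
      simp only [mem_filter]
      refine ⟨?_, by omega, ?_⟩
      · rw [show 2 * N - 1 + r - z = 2 * N - 1 - (z - r) by omega]; exact hz.2.2 (by omega)
      · rw [show 2 * N - 1 + r - z - r = 2 * N - 1 - z by omega]; exact hz.1.2
    · intro x hx
      simp only [mem_filter] at hx
      have := hlt x hx.1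
      omega
    · intro z hz
      simp only [mem_filter, mem_cj] at hz
      omega
    · intro x hx
      simp only [mem_filter] at hx
      obtain ⟨hx, hrx, hxr⟩ := hx
      have hx2 := hlt x hx
      have hT : insert (x - r) (S.erase x) ⊆ range (2 * N) := by
        intro y hy
        rcases Finset.mem_insert.1 hy with rfl | hy
        · simp only [mem_range]; omega
        · exact h (Finset.mem_of_mem_erase hy)
      have hTc : (insert (x - r) (S.erase x)).card = N := by
        rw [Finset.card_insert_of_notMem (fun h' => hxr (Finset.mem_of_mem_erase h')),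
          Finset.card_erase_of_mem hx]
        have := Finset.card_pos.2 ⟨x, hx⟩
        omega
      have h1 : insert (2 * N - 1 + r - x - r) ((cj (2 * N) S).erase (2 * N - 1 + r - x)) =
          cj (2 * N) (insert (x - r) (S.erase x)) := by
        ext z
        simp only [mem_insert, mem_erase, mem_cj, not_or, not_and]
        constructor
        · rintro (rfl | ⟨h1, h2, h3⟩)
          · exact ⟨by omega, by omega, fun h => absurd (by omega) h⟩
          · exact ⟨h2, by omega, fun _ => h3⟩
        · rintro ⟨h1, h2, h3⟩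
          by_cases h4 : 2 * N - 1 - z = x
          · left; omega
          · exact Or.inr ⟨by omega, h1, h3 h4⟩
      rw [h1, ih (fun s hs => hμ s (by simp [hs])) hT hTc]
      have h2 : ((cj (2 * N) S).filter fun y =>
          2 * N - 1 + r - x - r < y ∧ y < 2 * N - 1 + r - x).card +
          (S.filter fun y => x - r < y ∧ y < x).card + 1 = r := by
        have h3 : ((cj (2 * N) S).filter fun y =>
            2 * N - 1 + r - x - r < y ∧ y < 2 * N - 1 + r - x).card =
            ((Ioo (x - r) x).filter fun y => y ∉ S).card := by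
          refine Finset.card_nbij' (fun z => 2 * N - 1 - z) (fun z => 2 * N - 1 - z) ?_ ?_ ?_ ?_
          · intro z hz
            simp only [coe_filter, mem_cj, Set.mem_ofPred_eq, mem_Ioo] at hz ⊢
            exact ⟨⟨by omega, by omega⟩, hz.1.2⟩
          · intro z hz
            simp only [coe_filter, mem_cj, Set.mem_ofPred_eq, mem_Ioo] at hz ⊢
            rw [show 2 * N - 1 - (2 * N - 1 - z) = z by omega]
            exact ⟨⟨by omega, hz.2⟩, by omega, by omega⟩
          · intro z hz
            simp only [coe_filter, mem_cj, Set.mem_ofPred_eq] at hz ⊢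
            omega
          · intro z hz
            simp only [coe_filter, Set.mem_ofPred_eq, mem_Ioo] at hz ⊢
            omega
        have h4 : (S.filter fun y => x - r < y ∧ y < x) = (Ioo (x - r) x).filter fun y => y ∈ S := by
          ext y; simp [and_comm]
        have h5 := Finset.card_filter_add_card_filter_not (s := Ioo (x - r) x) (fun y => y ∈ S)
        rw [Nat.card_Ioo] at h5
        rw [h3, h4]
        omega
      generalize ((cj (2 * N) S).filter fun y =>
          2 * N - 1 + r - x - r < y ∧ y < 2 * N - 1 + r - x).card = a at h2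
      generalize (S.filter fun y => x - r < y ∧ y < x).card = b at h2
      subst h2
      simp only [sgn, Multiset.map_cons, Multiset.prod_cons, pow_succ, pow_add]
      have : ((-1 : ℂ) ^ b) * (-1) ^ b = 1 := by rw [← mul_pow]; simp
      linear_combination ((-1 : ℂ) ^ a * (Multiset.map (fun r => (-1 : ℂ) ^ r * -1) μ).prod *
        Y N μ (insert (x - (a + b + 1)) (S.erase x))) * this

end SFock
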