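import Cfsg.Agent.Lib.Sym.Abacus

/-!
# Spanning modulo `p`-singular classes

On `p`-regular classes every character is a combination of characters with the same residues whose
configuration has all beads of a chosen runner slid down.
-/

namespace SFock

open Finset

variable {N : ℕ}

theorem sum_powersetCard_eq_zero {p : ℕ} {F : Fn N} (hF : ∀ r, 0 < r → R (p * r) F = 0)
    {k : ℕ} (hk : 0 < k) (β : Fin N → ℕ) :
    ∑ S ∈ powersetCard k (univ : Finset (Fin N)), F (β + fun i => if i ∈ S then p else 0) = 0 := by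
  let Φ : MvPolynomial (Fin N) ℂ →ₗ[ℂ] ℂ :=
    (MvPolynomial.basisMonomials (Fin N) ℂ).constr ℂ fun m => F m
  have hΦ : ∀ m : Fin N →₀ ℕ, Φ (MvPolynomial.monomial m 1) = F m := by
    intro m
    have := (MvPolynomial.basisMonomials (Fin N) ℂ).constr_basis ℂ (fun m => F m) m
    rwa [MvPolynomial.coe_basisMonomials] at this
  have h1 : ∀ r, 0 < r → ∀ f, Φ (MvPolynomial.psum (Fin N) ℂ (p * r) * f) = 0 := by
    intro r hr f
    induction f using MvPolynomial.induction_on' with
    | monomial u a =>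
      have : (MvPolynomial.monomial u a : MvPolynomial (Fin N) ℂ) =
          a • MvPolynomial.monomial u 1 := by simp [MvPolynomial.smul_monomial]
      rw [this, mul_smul_comm, map_smul, MvPolynomial.psum, Finset.sum_mul, map_sum]
      have h2 := congrFun (hF r hr) u
      simp only [R, Pi.zero_apply] at h2
      rw [Finset.sum_congr rfl (g := fun i => F (⇑u + sg i (p * r))), h2, smul_zero]
      intro i _
      rw [MvPolynomial.X_pow_eq_monomial, MvPolynomial.monomial_mul, one_mul, hΦ]
      congr 1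
      funext j
      rw [Finsupp.add_apply, Pi.add_apply, add_comm, Finsupp.single_eq_pi_single]
    | add f g hf hg => rw [mul_add, map_add, hf, hg, add_zero]
  let ψ : MvPolynomial (Fin N) ℂ →ₐ[ℂ] MvPolynomial (Fin N) ℂ :=
    MvPolynomial.aeval fun i => MvPolynomial.X i ^ p
  have hψ : ∀ j, ψ (MvPolynomial.psum (Fin N) ℂ j) = MvPolynomial.psum (Fin N) ℂ (p * j) := by
    intro j
    simp [ψ, MvPolynomial.psum, pow_mul]
  have h2 : ∀ f, Φ (ψ (MvPolynomial.esymm (Fin N) ℂ k) * f) = 0 := by
    intro f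
    have h3 := congrArg (fun g => Φ (ψ g * f)) (MvPolynomial.mul_esymm_eq_sum (Fin N) ℂ k)
    simp only [map_mul, map_natCast, map_pow, map_neg, map_one, map_sum, hψ] at h3
    have h4 : Φ ((k : MvPolynomial (Fin N) ℂ) * ψ (MvPolynomial.esymm (Fin N) ℂ k) * f) =
        (k : ℂ) * Φ (ψ (MvPolynomial.esymm (Fin N) ℂ k) * f) := by
      rw [mul_assoc, ← nsmul_eq_mul, map_nsmul, nsmul_eq_mul]
    rw [h4, Finset.mul_sum, Finset.sum_mul, map_sum, Finset.sum_eq_zero] at h3
    · exact (mul_eq_zero.1 h3).resolve_left (by exact_mod_cast hk.ne')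
    · intro a ha
      simp only [mem_filter, HasAntidiagonal.mem_antidiagonal] at ha
      rw [← h1 a.2 (by omega) ((-1) ^ (k + 1) * ((-1) ^ a.1 * ψ (MvPolynomial.esymm (Fin N) ℂ a.1))
        * f)]
      congr 1
      ring
  have h3 := h2 (MvPolynomial.monomial (Finsupp.equivFunOnFinite.symm β) 1)
  rw [MvPolynomial.esymm, map_sum, Finset.sum_mul, map_sum] at h3
  rw [← h3]
  refine Finset.sum_congr rfl fun S _ => ?_
  simp only [ψ, map_prod, MvPolynomial.aeval_X, MvPolynomial.X_pow_eq_monomial]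
  rw [← MvPolynomial.monomial_sum_one, MvPolynomial.monomial_mul, one_mul, hΦ]
  congr 1
  funext j
  simp [Finsupp.single_apply, add_comm]

theorem sum_lt_sum_of_threshold {ι : Type*} [DecidableEq ι] {A B : Finset ι} (φ : ι → ℕ) {c : ℕ}
    (hc : 0 < c) (hcard : A.card ≤ B.card) (hne : A ≠ B) (hB : ∀ i ∈ B, c ≤ φ i)
    (hA : ∀ i ∈ A, i ∉ B → φ i < c) : ∑ i ∈ A, φ i < ∑ i ∈ B, φ i := by
  have h1 := Finset.sum_inter_add_sum_sdiff A B φ
  have h2 := Finset.sum_inter_add_sum_sdiff B A φ
  rw [Finset.inter_comm] at h2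
  have h3 := Finset.card_sdiff_add_card_inter A B
  have h4 := Finset.card_sdiff_add_card_inter B A
  rw [Finset.inter_comm] at h4
  have h5 : 0 < (B \ A).card := by
    rw [Finset.card_pos, Finset.sdiff_nonempty]
    exact fun h => hne (Finset.eq_of_subset_of_card_le h hcard).symm
  have h6 : ∑ i ∈ A \ B, φ i ≤ _ := Finset.sum_le_card_nsmul (A \ B) φ (c - 1) (fun i hi => by
    have := hA i (Finset.mem_sdiff.1 hi).1 (Finset.mem_sdiff.1 hi).2
    omega)
  have h7 : _ ≤ ∑ i ∈ B \ A, φ i :=
    Finset.card_nsmul_le_sum (B \ A) φ c (fun i hi => hB i (Finset.mem_sdiff.1 hi).1)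
  rw [smul_eq_mul] at h6 h7
  have h8 : (A \ B).card * (c - 1) ≤ (B \ A).card * (c - 1) :=
    Nat.mul_le_mul_right _ (by omega)
  have h9 : (B \ A).card * (c - 1) < (B \ A).card * c := by
    exact Nat.mul_lt_mul_of_pos_left (by omega) h5
  omega

/-- The weight on one runner. -/
def wr (p ρ : ℕ) (S : Finset ℕ) : ℕ := ∑ x ∈ S with x % p = ρ, ht p S x

theorem mem_span_good {V : Type*} [AddCommGroup V] [Module ℂ V] {p : ℕ} (hp : 0 < p) (ρ : ℕ)
    (v : (Fin N → ℕ) → V) (h0 : ∀ β, ¬ Function.Injective β → v β = 0)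
    (h1 : ∀ β, Function.Injective β → ∃ c : ℂ, v β = c • v (en N (univ.image β)))
    (h2 : ∀ k, 0 < k → ∀ β : Fin N → ℕ,
      ∑ S ∈ powersetCard k (univ : Finset (Fin N)), v (β + fun i => if i ∈ S then p else 0) = 0)
    (d : ℕ) (c : Multiset ℕ) (β : Fin N → ℕ) (hd : ∑ i, β i = d)
    (hc : univ.val.map (fun i => β i % p) = c) :
    v β ∈ Submodule.span ℂ ((fun T => v (en N T)) ''
      {T | T ∈ SS N d ∧ res p T = c ∧ wr p ρ T = 0}) := by
  induction hm : ∑ i ∈ univ.filter (fun i => β i % p = ρ), β i ^ 2 using Nat.strong_induction_on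
    generalizing β with
  | _ m ih =>
  by_cases hβ : Function.Injective β
  swap
  · rw [h0 β hβ]; exact Submodule.zero_mem _
  by_cases hw : wr p ρ (univ.image β) = 0
  · obtain ⟨a, ha⟩ := h1 β hβ
    rw [ha]
    refine Submodule.smul_mem _ _ (Submodule.subset_span ⟨univ.image β, ⟨?_, ?_, hw⟩, rfl⟩)
    · rw [mem_SS, Finset.sum_image (fun x _ y _ hxy => hβ hxy)]
      exact ⟨card_image_inj hβ, hd⟩
    · rw [res, Finset.image_val_of_injOn hβ.injOn, Multiset.map_map, ← hc]; rfl
  obtain ⟨x, hx, hx1⟩ := Finset.exists_ne_zero_of_sum_ne_zero hw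
  obtain ⟨t, ht⟩ := Finset.card_ne_zero.1 hx1
  simp only [mem_filter, mem_range, mem_image, mem_univ, true_and, not_exists] at hx ht
  obtain ⟨⟨i₀, rfl⟩, hi₀⟩ := hx
  obtain ⟨ht1, ht2, ht3⟩ := ht
  rw [hi₀] at ht2
  set S₀ : Finset (Fin N) := univ.filter fun i => β i % p = ρ ∧ t < β i with hS₀
  have hS₀' : ∀ i ∈ S₀, t + p ≤ β i := by
    intro i hi
    simp only [hS₀, mem_filter, mem_univ, true_and] at hi
    exact add_le_of_mod_eq (ht2.trans hi.1.symm) hi.2
  set β' : Fin N → ℕ := fun i => if i ∈ S₀ then β i - p else β i with hβ'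
  have hres : ∀ i, β' i % p = β i % p := by
    intro i
    simp only [hβ']
    split_ifs with hi
    · exact sub_mod_self (by have := hS₀' i hi; omega)
    · rfl
  have hback : (β' + fun i => if i ∈ S₀ then p else 0) = β := by
    funext i
    simp only [hβ', Pi.add_apply]
    split_ifs with hi
    · have := hS₀' i hi; omega
    · rfl
  have hres' : ∀ (S : Finset (Fin N)) i,
      (β' + fun i => if i ∈ S then p else 0 : Fin N → ℕ) i % p = β i % p := by
    intro S i
    rw [← hres, Pi.add_apply]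
    split_ifs <;> simp
  have hsum : ∀ S : Finset (Fin N),
      ∑ i, (β' + fun i => if i ∈ S then p else 0 : Fin N → ℕ) i = ∑ i, β' i + S.card * p := by
    intro S
    simp [Finset.sum_add_distrib]
  have hsq : ∀ S : Finset (Fin N), ∑ i ∈ univ.filter (fun i => β i % p = ρ),
      (β' + fun i => if i ∈ S then p else 0 : Fin N → ℕ) i ^ 2 =
      ∑ i ∈ univ.filter (fun i => β i % p = ρ), β' i ^ 2 +
        ∑ i ∈ (univ.filter (fun i => β i % p = ρ)) ∩ S, (2 * p * β' i + p ^ 2) := by
    intro S
    rw [← Finset.sum_ite_mem, ← Finset.sum_add_distrib]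
    refine Finset.sum_congr rfl fun i _ => ?_
    rw [Pi.add_apply]
    split_ifs <;> ring
  have hk : 0 < S₀.card := Finset.card_pos.2 ⟨i₀, by simp [hS₀, hi₀, ht1]⟩
  have h3 := h2 _ hk β'
  have hmem : S₀ ∈ powersetCard S₀.card (univ : Finset (Fin N)) := by simp
  rw [← Finset.add_sum_erase _ _ hmem, hback, add_eq_zero_iff_eq_neg] at h3
  rw [h3]
  refine Submodule.neg_mem _ (Submodule.sum_mem _ fun S hS => ?_)
  have hScard : S.card = S₀.card := (Finset.mem_powersetCard.1 (Finset.mem_of_mem_erase hS)).2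
  refine ih _ ?_ _ ?_ ?_ rfl
  · simp only [hres']
    have h4 := hsq S₀
    rw [hback, hm] at h4
    rw [h4, hsq]
    have h5 : (univ.filter (fun i => β i % p = ρ)) ∩ S₀ = S₀ := by
      rw [Finset.inter_eq_right]
      intro i hi
      simp only [hS₀, mem_filter, mem_univ, true_and] at hi ⊢
      exact hi.1
    rw [h5]
    refine Nat.add_lt_add_left (sum_lt_sum_of_threshold _ (c := 2 * p * t + p ^ 2)
      (by positivity) ?_ ?_ ?_ ?_) _
    · exact le_trans (Finset.card_le_card Finset.inter_subset_right) hScard.le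
    · intro h6
      refine Finset.ne_of_mem_erase hS (Finset.eq_of_subset_of_card_le ?_ hScard.le).symm
      rw [← h6]; exact Finset.inter_subset_right
    · intro i hi
      have := hS₀' i hi
      have h7 : t ≤ β' i := by simp only [hβ', if_pos hi]; omega
      exact Nat.add_le_add_right (Nat.mul_le_mul_left _ h7) _
    · intro i hi hi'
      have h7 : β' i < t := by
        simp only [hβ', if_neg hi']
        simp only [hS₀, mem_filter, mem_univ, true_and, mem_inter, not_and] at hi hi'
        have := hi' hi.1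
        have := ht3 i
        omega
      exact Nat.add_lt_add_right (Nat.mul_lt_mul_of_pos_left h7 (by omega)) _
  · rw [hsum, hScard, ← hsum, hback, hd]
  · simp only [hres', hc]

/-- On classes without parts divisible by `p`, every character is a combination of those with
the same residues and a runner slid down. -/
theorem Y_mem_span_good {α : Type*} {p : ℕ} (hp : 0 < p) (ρ : ℕ) (μ : α → Multiset ℕ)
    (P : α → Prop) [DecidablePred P] (hN : ∀ a, (μ a).sum ≤ N)
    (hP : ∀ a, P a → ∀ r, 0 < r → p * r ∉ μ a) {d : ℕ} {S : Finset ℕ} (hS : S ∈ SS N d) :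
    (fun a => if P a then Y N (μ a) S else 0) ∈ Submodule.span ℂ
      ((fun T a => if P a then Y N (μ a) T else 0) ''
        {T | T ∈ SS N d ∧ res p T = res p S ∧ wr p ρ T = 0}) := by
  obtain ⟨hc, hs⟩ := mem_SS.1 hS
  refine mem_span_good hp ρ (fun β a => if P a then X N (μ a) β else 0) ?_ ?_ ?_ d (res p S)
    (en N S) ?_ ?_
  · intro β hβ
    funext a
    simp [(alt_X (μ a)).eq_zero hβ]
  · intro β hβ
    refine ⟨eps β, ?_⟩
    funext a
    simp only [Pi.smul_apply, smul_eq_mul]
    split_ifs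
    · exact (alt_X (μ a)).eq_eps hβ
    · simp
  · intro k hk β
    funext a
    rw [Finset.sum_apply]
    by_cases ha : P a
    · simp only [ha, if_true, Pi.zero_apply]
      refine sum_powersetCard_eq_zero (fun r hr => ?_) hk β
      rw [R_X (Nat.mul_pos hp hr) _ (hN a), Multiset.count_eq_zero_of_notMem (hP a ha r hr)]
      simp
    · simp [ha]
  · rw [sum_en hc (fun x => x), hs]
  · rw [res, ← map_en hc, Multiset.map_map]; rfl

end SFock
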